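import Cfsg.Agent.H497.Stein.Eng
import Cfsg.Agent.BpSpor.Row.J2
import Cfsg.Agent.KFacts.J2.Facts
import Cfsg.Agent.J2Type.ThreeF
import Cfsg.Agent.J2Type.FiveFus
import Cfsg.Agent.H792.Sp.JThreeExp
import Cfsg.Agent.OddHalf.D8.RowJ3
import Cfsg.Agent.S1625
import Cfsg.Agent.FastGrp
import Cfsg.Agent.Prune
set_option linter.all false
prune_inst 0x7f00000000000000000000000000000000000000000000000000000000000000000000000000000000000000000000000000000000000000000000000000000000000000000000000000000000000000003fffffffffffffffffffffffffffbeffbdffffffff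
open scoped Cfsg.Agent.FastGrp

/-!
# S4114: the rows `J₂` and `J₃` (helper497)
-/

set_option autoImplicit false
set_option linter.unusedSectionVars false

namespace Cfsg.Agent.H497.Stein

open Subgroup Cfsg Cfsg.Agent.H520
open Cfsg.Agent.BpSpor (Dat)
open Cfsg.Agent.BpSpor.Inn (OddInn)

universe u

/-! ### `J₂` -/

section two

open Cfsg.Agent.J2Type Cfsg.Agent.J2Type.Base Cfsg.Agent.J2Type.CentU

variable {X : Type u} [Group X] [Finite X] {z u : X}

theorem centralizer_inv (y : X) : centralizer ({y⁻¹} : Set X) = centralizer ({y} : Set X) := by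
  ext g
  rw [mem_centralizer_singleton_iff, mem_centralizer_singleton_iff]
  exact ⟨fun h => by simpa using (show Commute g y⁻¹ from h).inv_right.eq, fun h => (show Commute g y from h).inv_right.eq⟩

theorem real_three_j2 (h : Fus z u) {y : X} (hy : orderOf y = 3) : IsConj y y⁻¹ := by
  obtain ⟨a, b, -, -, hca, hcb, hcl, -⟩ := ThreeF.main h
  have hy' := hcl y⁻¹ (by rw [orderOf_inv, hy])
  rcases hcl y hy with h1 | h1 <;> rcases hy' with h2 | h2
  · exact h1.trans h2.symm
  · exfalso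
    have h3 := Cent5.card_centralizer_of_isConj h1
    have h4 := Cent5.card_centralizer_of_isConj h2
    rw [centralizer_inv] at h4
    omega
  · exfalso
    have h3 := Cent5.card_centralizer_of_isConj h1
    have h4 := Cent5.card_centralizer_of_isConj h2
    rw [centralizer_inv] at h4
    omega
  · exact h1.trans h2.symm

/-- realness of generators of conjugate subgroups -/
theorem real_of_map {y w g : X} (hw : IsConj w w⁻¹)
    (h : (zpowers y).map (MulAut.conj g).toMonoidHom = zpowers w) : IsConj y y⁻¹ := by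
  have h1 : g * y * g⁻¹ ∈ zpowers w := by
    rw [← h]
    exact ⟨y, mem_zpowers y, rfl⟩
  obtain ⟨k, hk⟩ := h1
  have hk' : w ^ k = g * y * g⁻¹ := hk
  obtain ⟨c, hc⟩ := isConj_iff.1 hw
  have h2 : IsConj (g * y * g⁻¹) (g * y * g⁻¹)⁻¹ := by
    rw [← hk', isConj_iff]
    exact ⟨c, by rw [← conj_zpow, hc, inv_zpow]⟩
  have h3 : IsConj y (g * y * g⁻¹) := isConj_iff.2 ⟨g, rfl⟩
  have h4 : IsConj y⁻¹ (g * y * g⁻¹)⁻¹ := isConj_iff.2 ⟨g, by group⟩
  exact h3.trans (h2.trans h4.symm)

theorem map_conj_mul (W : Subgroup X) (g k : X) : (W.map (MulAut.conj g).toMonoidHom).map (MulAut.conj k).toMonoidHom =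
    W.map (MulAut.conj (k * g)).toMonoidHom := by
  rw [Subgroup.map_map]
  congr 1
  ext x
  show k * (g * x * g⁻¹) * k⁻¹ = k * g * x * (k * g)⁻¹
  group

theorem map_conj_inv {W Y : Subgroup X} {g : X} (h : W.map (MulAut.conj g).toMonoidHom = Y) :
    Y.map (MulAut.conj g⁻¹).toMonoidHom = W := by
  rw [← h, map_conj_mul, inv_mul_cancel]
  have : (MulAut.conj (1 : X)).toMonoidHom = MonoidHom.id X := by
    ext x
    show (1 : X) * x * 1⁻¹ = x
    group
  rw [this, Subgroup.map_id]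

/-- conjugate cyclic groups of order five have centralizers of the same order -/
theorem card_cent_of_map {y w g : X} (h : (zpowers y).map (MulAut.conj g).toMonoidHom = zpowers w) :
    Nat.card (centralizer ({y} : Set X)) = Nat.card (centralizer ({w} : Set X)) := by
  have h0 : IsConj y (g * y * g⁻¹) := isConj_iff.2 ⟨g, rfl⟩
  rw [Cent5.card_centralizer_of_isConj h0]
  have h1 : zpowers (g * y * g⁻¹) = zpowers w := by
    rw [← h, MonoidHom.map_zpowers]
    rfl
  have key : ∀ a b : X, zpowers a = zpowers b → centralizer ({a} : Set X) ≤ centralizer ({b} : Set X) := by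
    intro a b hab x hx
    rw [mem_centralizer_singleton_iff] at hx ⊢
    obtain ⟨i, hi⟩ : b ∈ zpowers a := by rw [hab]; exact mem_zpowers b
    have hi' : a ^ i = b := hi
    rw [← hi']
    exact ((show Commute x a from hx).zpow_right i).eq
  rw [le_antisymm (key _ _ h1) (key _ _ h1.symm)]

theorem real_five_j2 (h : Fus z u) {y : X} (hy : orderOf y = 5) : IsConj y y⁻¹ := by
  have : Fact (Nat.Prime 5) := ⟨by norm_num⟩
  have hG := Order.card_of_fus h
  obtain ⟨f, U, V, H0, F⟩ := CentU.main h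
  have h60 : Nat.card H0 = 60 := by
    have h1 := Order.card_centralizer_u h
    rw [F.str.card] at h1
    omega
  obtain ⟨w', hw'⟩ := exists_prime_orderOf_dvd_card' (G := H0) 5 (by rw [h60]; norm_num)
  obtain ⟨w, hw⟩ := exists_prime_orderOf_dvd_card' (G := centralizer ({z} : Set X)) 5
    (by rw [h.cardC]; norm_num)
  have hw'5 : orderOf (w' : X) = 5 := by rw [orderOf_coe]; exact hw'
  have hw5 : orderOf (w : X) = 5 := by rw [orderOf_coe]; exact hw
  have hwz : (w : X) * z = z * w := mem_centralizer_singleton_iff.mp w.2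
  have hr : IsConj (w : X) (w : X)⁻¹ := FiveFus.real_of_comm h hw5 hwz
  have hgood := Cent5.good_of_mem h F h60 w'.2 hw'5
  have hr' : IsConj (w' : X) (w' : X)⁻¹ := hgood.2.1
  have hc' : Nat.card (centralizer ({(w' : X)} : Set X)) = 300 := Cent5.card_centralizer_five h F h60 hG w'.2 hw'5
  have hc : ¬ 4 ∣ Nat.card (centralizer ({(w : X)} : Set X)) := FiveFus.not_four_dvd h hw5 hwz
  obtain ⟨P⟩ : Nonempty (Sylow 5 X) := inferInstance
  obtain ⟨-, -, -, A, B, -, -, -, hcl⟩ := FiveFus.sylow_five h P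
  obtain ⟨gy, hy1⟩ := hcl (zpowers y) (by rw [Nat.card_zpowers, hy])
  obtain ⟨gw, hw1⟩ := hcl (zpowers (w : X)) (by rw [Nat.card_zpowers, hw5])
  obtain ⟨gv, hv1⟩ := hcl (zpowers (w' : X)) (by rw [Nat.card_zpowers, hw'5])
  -- transitivity
  have tr : ∀ {a b g k : X} {Y : Subgroup X}, (zpowers a).map (MulAut.conj g).toMonoidHom = Y →
      (zpowers b).map (MulAut.conj k).toMonoidHom = Y →
      (zpowers a).map (MulAut.conj (k⁻¹ * g)).toMonoidHom = zpowers b := by
    intro a b g k Y h1 h2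
    rw [← map_conj_mul, h1]
    exact map_conj_inv h2
  have ne : ∀ g : X, (zpowers (w : X)).map (MulAut.conj g).toMonoidHom ≠ zpowers (w' : X) := by
    intro g hg
    apply hc
    rw [card_cent_of_map hg, hc']
    norm_num
  rcases hy1 with hy1 | hy1 <;> rcases hw1 with hw1 | hw1 <;> rcases hv1 with hv1 | hv1
  · exact absurd (tr hw1 hv1) (ne _)
  · exact real_of_map hr (tr hy1 hw1)
  · exact real_of_map hr' (tr hy1 hv1)
  · exact absurd (tr hw1 hv1) (ne _)
  · exact absurd (tr hw1 hv1) (ne _)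
  · exact real_of_map hr' (tr hy1 hv1)
  · exact real_of_map hr (tr hy1 hw1)
  · exact absurd (tr hw1 hv1) (ne _)

theorem row_J2 {G : Type u} [Group G] [Finite G] (h : Spor.IsoJ2 G) : Row G := by
  obtain ⟨t, u, Q, v, ρ, D⟩ := Cfsg.Agent.KFacts.J2.Facts.exists_dat_of h
  refine row_of_dat (Cfsg.Agent.BpSpor.Row.dat_j2 h) (l := [(2, 7), (3, 3), (5, 2), (7, 1)]) (by decide +kernel)
    (by norm_num) (fun x hx hx2 hx3 => ?_)
  simp only [List.mem_cons, List.not_mem_nil, or_false] at hx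
  rcases hx with rfl | rfl | rfl | rfl
  · exact absurd rfl hx3
  · exact moved_of_real Nat.prime_three (by norm_num) fun y hy => real_three_j2 D.F hy
  · exact moved_of_real Nat.prime_five (by norm_num) fun y hy => real_five_j2 D.F hy
  · exact absurd hx2 (by norm_num)

end two

/-! ### `J₃` -/

section three

open Cfsg.Spor Cfsg.Agent.J3.Core Cfsg.Agent.J3.Tab Cfsg.Agent.J3.Mono Cfsg.Agent.J3.Elts Cfsg.Agent.H898.J3Three
open Cfsg.Agent.H792.SpJ3
open Cfsg.Agent.J3.Nineteen (exists_scalar)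

theorem mul_conj_m1 : ∀ Z : F9, F9.mul (conj9 m1) Z = -Z := by decide

variable {F : Type} [Field F] [Fintype F] {ω : F}

/-- `B_{-1}` inverts the `A_Z` -/
theorem real_a (H : Good ω) (G : Gens F ω) (a : F9) :
    IsConj (pr (G.a a) : J3 F ω) (pr (G.a a))⁻¹ := by
  have h1 : G.a a * G.b m1 = G.b m1 * G.a (-a) := by
    apply mat_injective
    rw [map_mul, map_mul, G.ha, G.ha, G.hb _ m1_ne, relAB H a m1 m1_ne, mul_conj_m1]
  have h2 : G.a (-a) = (G.a a)⁻¹ := by
    rw [eq_comm, inv_eq_iff_mul_eq_one, aa G H, add_neg_cancel, a_zero H G]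
  rw [h2] at h1
  rw [isConj_iff]
  refine ⟨(pr (G.b m1))⁻¹, ?_⟩
  rw [inv_inv, mul_assoc, ← map_mul, h1, map_mul, inv_mul_cancel_left, map_inv]

theorem real_three_j3 (hF : Fintype.card F = 4) (hω : ω ^ 2 + ω + 1 = 0) : Moved 3 (J3 F ω) := by
  have hp3 : Fact (Nat.Prime 3) := ⟨Nat.prime_three⟩
  have H : Good ω := good_of_card hF hω
  have hI : IsoJ3 (J3 F ω) := ⟨F, inferInstance, inferInstance, ω, hF, hω, ⟨MulEquiv.refl _⟩⟩
  obtain ⟨hcard, hmod, hone, -⟩ := CpAutJThree.base hI
  have hfin : Finite (J3 F ω) := Nat.finite_of_card_ne_zero (by rw [hcard]; norm_num)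
  obtain ⟨G⟩ := exists_gens hF H
  obtain ⟨S, hS⟩ := exists_S hF H G
  refine moved_of_sylow S fun y hy hyo => ?_
  refine movedAt_of_real ?_ (sq_ne_one Nat.prime_three (by norm_num) hyo)
  obtain ⟨k, a, w, rfl⟩ := (hS y).1 hy
  by_cases hZ : (pr (G.e ^ k * (G.a a * G.d w)) : J3 F ω) ∈ Z H G
  · obtain ⟨b, hb⟩ := hZ
    rw [hb]
    exact real_a H G b
  · obtain ⟨t, ht, htx⟩ := comm_inv hF H G (orderOf_dvd_iff_pow_eq_one.1 hyo.dvd) hZ
    obtain ⟨g, hg⟩ := CpAutJThree.conj_three hmod hone hyo (by rw [orderOf_inv]; exact hyo) ht ht htx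
      ((show Commute t _ from htx).inv_right.eq)
    exact isConj_iff.2 ⟨g, hg⟩

end three

theorem dat_j3 {K : Type u} [Group K] (h : Spor.IsoJ3 K) : Dat K 50232960 where
  simple := by
    obtain ⟨F, _, _, ω, hF, hω, ⟨e⟩⟩ := h
    exact (MulEquiv.isSimpleGroup_congr e).2 (Cfsg.Agent.S1625.result F hF ω hω).2.2.2
  card := by
    obtain ⟨F, _, _, ω, hF, hω, ⟨e⟩⟩ := h
    rw [Nat.card_congr e.toEquiv, (Cfsg.Agent.S1625.result F hF ω hω).2.2.1]
  inn := by
    obtain ⟨z, Q, v, ρ, M, hc, hi, hs⟩ := Cfsg.Agent.OddHalf.D8.RowJ3.sheet' K h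
    exact BpSpor.Inn.of_index hi

theorem row_J3 {G : Type u} [Group G] [Finite G] (h : Spor.IsoJ3 G) : Row G := by
  refine row_of_dat (dat_j3 h) (l := [(2, 7), (3, 5), (5, 1), (17, 1), (19, 1)]) (by decide +kernel)
    (by norm_num) (fun x hx hx2 hx3 => ?_)
  simp only [List.mem_cons, List.not_mem_nil, or_false] at hx
  rcases hx with rfl | rfl | rfl | rfl | rfl
  · exact absurd rfl hx3
  · obtain ⟨F, _, _, ω, hF, hω, ⟨e⟩⟩ := h
    exact (real_three_j3 hF hω).congr e
  · exact absurd hx2 (by norm_num)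
  · exact absurd hx2 (by norm_num)
  · exact absurd hx2 (by norm_num)

end Cfsg.Agent.H497.Stein
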