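import Cfsg.Agent.H497.Stein.Eng
import Cfsg.Agent.UGT.End.MEleven
import Cfsg.Agent.Cit.Eleven
import Cfsg.Agent.OddHalf.Table.OutMTwelve
import Cfsg.Agent.Schreier.MTwelve
import Cfsg.Agent.MTwelveType.SylowModel
import Cfsg.Agent.J4Type.Aut22
import Cfsg.Agent.SporadicA.MathieuRecog
import Cfsg.Agent.UGT.MTwentyThree.Aut
import Cfsg.Agent.Omega.TwoF.MathieuRK
import Cfsg.Agent.KFacts.M24Two.Out
import Cfsg.Agent.S0364
import Cfsg.Agent.S0365
import Cfsg.Agent.OddHalf.D4.Spor.J1Out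
import Cfsg.Agent.SporadicB.J1.Main
import Cfsg.Agent.SporadicA.M11Facts2
import Cfsg.Agent.H455.NoNine
import Cfsg.Agent.H865.ThreeClasses
import Cfsg.Agent.CpAutCo3.MTw
import Cfsg.Agent.H497.Stein.Heis
import Cfsg.Agent.H792.Sp.ConwayFive
import Cfsg.Agent.BpSpor.Row.HS
import Cfsg.Agent.UGT.End.McLOuter
import Cfsg.Agent.TypeM.FactsMcL
import Cfsg.Agent.Schreier.McLaughlin
import Cfsg.Agent.McLType.ThreeElts
import Cfsg.Agent.CoOneType.Thirteen
import Cfsg.Agent.FastGrp
import Cfsg.Agent.Prune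
set_option linter.all false
prune_inst 0x7f00000000000000000000000000000000000000000000000000000000000000000000000000000000000000000000000000000000000000000000000000000000000000000000000000000000000000003fffffffffffffffffffffffffffbeffbdffffffff
open scoped Cfsg.Agent.FastGrp

-- part: H497/Stein/Mat
section
/-!
# S4114: the rows of the Mathieu groups and of `J₁` (helper497)
-/

set_option autoImplicit false

namespace Cfsg.Agent.H497.Stein

open Subgroup Cfsg Cfsg.Agent.H520
open Cfsg.Agent.BpSpor (Dat)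
open Cfsg.Agent.BpSpor.Inn (OddInn)

universe u

/-! ### two classes separated by the number of fixed points -/

/-- a conjugation and inversion invariant function separating the two classes -/
theorem isConj_inv_of_two {K : Type*} [Group K] (f : K → ℕ) (hc : ∀ g x, f (g * x * g⁻¹) = f x)
    (hi : ∀ x, f x⁻¹ = f x) {A B b : K} (hAB : f A ≠ f B) (h : IsConj b A ∨ IsConj b B)
    (h' : IsConj b⁻¹ A ∨ IsConj b⁻¹ B) : IsConj b b⁻¹ := by
  have hf : ∀ {x y : K}, IsConj x y → f x = f y := by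
    intro x y hxy
    obtain ⟨g, rfl⟩ := isConj_iff.1 hxy
    exact (hc g x).symm
  rcases h with h | h <;> rcases h' with h' | h'
  · exact h.trans h'.symm
  · exact absurd (by rw [← hf h, ← hf h', hi]) hAB
  · exact absurd (by rw [← hf h, ← hf h', hi]) hAB
  · exact h.trans h'.symm

/-- the number of fixed points -/
def nfx (g : Equiv.Perm GolayPt) : ℕ := (Finset.univ.filter fun x => g x = x).card

theorem nfx_inv (g : Equiv.Perm GolayPt) : nfx g⁻¹ = nfx g := by
  unfold nfx
  congr 1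
  apply Finset.filter_congr
  intro x _
  rw [Equiv.Perm.inv_eq_iff_eq]
  exact eq_comm

theorem nfx_conj (g x : Equiv.Perm GolayPt) : nfx (g * x * g⁻¹) = nfx x := by
  unfold nfx
  refine Finset.card_bij (fun a _ => g⁻¹ a) ?_ ?_ ?_
  · intro a ha
    rw [Finset.mem_filter] at ha ⊢
    refine ⟨Finset.mem_univ _, ?_⟩
    have h1 : g (x (g⁻¹ a)) = a := ha.2
    rw [Equiv.Perm.eq_inv_iff_eq]
    exact h1
  · intro a _ b _ h
    exact g⁻¹.injective h
  · intro b hb
    rw [Finset.mem_filter] at hb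
    have hg : g⁻¹ (g b) = b := Equiv.symm_apply_apply g b
    refine ⟨g b, ?_, hg⟩
    rw [Finset.mem_filter]
    refine ⟨Finset.mem_univ _, ?_⟩
    show g (x (g⁻¹ (g b))) = g b
    rw [hg, hb.2]

/-! ### `M₁₁` -/

theorem dat_m11 {K : Type u} [Group K] (h : Spor.IsoM11 K) : Dat K 7920 where
  simple := (Cfsg.Agent.Cit.Eleven.isM11 h).1
  card := (Cfsg.Agent.Cit.Eleven.isM11 h).2
  inn := by
    have : Finite K := by
      obtain ⟨e⟩ := h
      exact Finite.of_equiv _ e.symm.toEquiv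
    exact BpSpor.Inn.of_inner (Cfsg.Agent.UGT.End.MEleven.inner h)

theorem row_M11 {G : Type u} [Group G] [Finite G] (h : Spor.IsoM11 G) : Row G := by
  refine row_of_dat (dat_m11 h) (l := [(2, 4), (3, 2), (5, 1), (11, 1)]) (by decide +kernel) (by norm_num)
    (fun x hx hx2 hx3 => ?_)
  simp only [List.mem_cons, List.not_mem_nil, or_false] at hx
  rcases hx with rfl | rfl | rfl | rfl
  · exact absurd rfl hx3
  · exact moved_of_one Nat.prime_three (by norm_num) fun x y hx hy =>
      Cfsg.Agent.SporadicA.M11Facts2.isConj_three (Cfsg.Agent.Cit.Eleven.isM11 h) hx hy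
  · exact absurd hx2 (by norm_num)
  · exact absurd hx2 (by norm_num)

/-! ### `M₁₂` -/

theorem of_mem_or_mem {K : Type*} [Group K] {a : MulAut K} (ha : a * a = 1)
    (h : ∀ φ : MulAut K, φ ∈ (MulAut.conj : K →* MulAut K).range ∨ a * φ ∈ (MulAut.conj : K →* MulAut K).range) :
    OddInn K := by
  apply BpSpor.Inn.of_pow
  intro α
  rcases h α with h1 | ⟨x, hx⟩
  · exact pow_mem h1 2
  · have h2 : α = a * MulAut.conj x := by rw [hx, ← mul_assoc, ha, one_mul]
    refine ⟨a x * x, ?_⟩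
    rw [h2, pow_two]
    ext u
    have h3 : ∀ v : K, a (a v) = v := fun v => by
      rw [← MulAut.mul_apply, ha, MulAut.one_apply]
    simp only [MulAut.mul_apply, MulAut.conj_apply, map_mul, map_inv, h3, mul_inv_rev, mul_assoc]

theorem dat_m12 {K : Type u} [Group K] (h : Spor.IsoM12 K) : Dat K 95040 where
  simple := by
    obtain ⟨e⟩ := h
    exact (MulEquiv.isSimpleGroup_congr e).2 Cfsg.Agent.Schreier.MTwelve.isSimpleGroup
  card := by
    obtain ⟨e⟩ := h
    rw [Nat.card_congr e.toEquiv, Cfsg.Agent.MTwelveType.SylowModel.card_M12]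
  inn := by
    obtain ⟨e⟩ := h
    exact OddInn.congr e (of_mem_or_mem Cfsg.Agent.OddHalf.Table.OutMTwelve.al_mul_al
      Cfsg.Agent.OddHalf.Table.OutMTwelve.mem_or_mem)

section twelve

open Cfsg.Agent.CpAutCo3.MTw Cfsg.Agent.CoThreeStd.MTwelve

theorem nfx_wd (w : List ℕ) : nfx (wd w : Equiv.Perm GolayPt) = (Finset.univ.filter fun p : GolayPt =>
    act w (SporadicStructure.M11InvPerms.enc p) = SporadicStructure.M11InvPerms.enc p).card := by
  have h : ∀ p : GolayPt, (wd w : Equiv.Perm GolayPt) p = p ↔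
      act w (SporadicStructure.M11InvPerms.enc p) = SporadicStructure.M11InvPerms.enc p := by
    intro p
    have h1 := (act_spec w _ (enc_lt p)).1
    rw [dec_enc] at h1
    rw [← h1]
    constructor
    · intro h2
      exact congrArg _ h2
    · intro h2
      have h3 := congrArg SporadicStructure.M11InvPerms.dec h2
      rwa [dec_enc, dec_enc] at h3
  unfold nfx
  rw [Finset.filter_congr fun p _ => h p]

theorem nfx_A0 : nfx (A0 : Equiv.Perm GolayPt) = 6 := by
  rw [A0, nfx_wd]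
  decide +kernel

theorem nfx_B0 : nfx (B0 : Equiv.Perm GolayPt) = 0 := by
  rw [B0, nfx_wd]
  decide +kernel

theorem real_m12 {x : Spor.M12} (hx : orderOf x = 3) : IsConj x x⁻¹ := by
  have key : ∀ y : Spor.M12, orderOf y = 3 → IsConj y A0 ∨ IsConj y B0 := by
    intro y hy
    have h1 : y ≠ 1 := by
      rintro rfl
      rw [orderOf_one] at hy
      omega
    rcases classes h1 (by rw [← hy]; exact pow_orderOf_eq_one y) with ⟨m, hm⟩ | ⟨m, hm⟩
    · left
      exact isConj_iff.2 ⟨m, by rw [← hm]; group⟩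
    · right
      exact isConj_iff.2 ⟨m, by rw [← hm]; group⟩
  refine isConj_inv_of_two (fun g : Spor.M12 => nfx (g : Equiv.Perm GolayPt)) (fun g x => nfx_conj _ _)
    (fun x => nfx_inv _) (A := A0) (B := B0) ?_ (key x hx) (key x⁻¹ (by rw [orderOf_inv, hx]))
  show nfx (A0 : Equiv.Perm GolayPt) ≠ nfx (B0 : Equiv.Perm GolayPt)
  rw [nfx_A0, nfx_B0]
  norm_num

end twelve

theorem row_M12 {G : Type u} [Group G] [Finite G] (h : Spor.IsoM12 G) : Row G := by
  refine row_of_dat (dat_m12 h) (l := [(2, 6), (3, 3), (5, 1), (11, 1)]) (by decide +kernel) (by norm_num)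
    (fun x hx hx2 hx3 => ?_)
  simp only [List.mem_cons, List.not_mem_nil, or_false] at hx
  rcases hx with rfl | rfl | rfl | rfl
  · exact absurd rfl hx3
  · obtain ⟨e⟩ := h
    have : Finite Spor.M12 := Finite.of_equiv G e.toEquiv
    exact (moved_of_real Nat.prime_three (by norm_num) fun y hy => real_m12 hy).congr e
  · exact absurd hx2 (by norm_num)
  · exact absurd hx2 (by norm_num)

/-! ### `M₂₂` -/

section twentytwo

open Cfsg.Agent.J4Type.Aut22 (D22 mem_D22_iff M22_le_D22 exists_conj eq_one_of_centralizes)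
open Cfsg.Agent.SporadicA.MathieuRecog (mem_M22_iff simple_M22)

theorem sq_mem_M22 {d : Equiv.Perm GolayPt} (hd : d ∈ D22) : d * d ∈ Spor.M22 := by
  obtain ⟨hM, h⟩ := (mem_D22_iff d).1 hd
  refine (mem_M22_iff _).2 ⟨M24.mul_mem hM hM, ?_⟩
  rcases h with h | h
  · exact ⟨by rw [Equiv.Perm.mul_apply, h.1, h.1], by rw [Equiv.Perm.mul_apply, h.2, h.2]⟩
  · exact ⟨by rw [Equiv.Perm.mul_apply, h.1, h.2], by rw [Equiv.Perm.mul_apply, h.2, h.1]⟩

theorem dat_m22 {K : Type u} [Group K] (h : Spor.IsoM22 K) : Dat K 443520 where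
  simple := by
    obtain ⟨e⟩ := h
    exact (MulEquiv.isSimpleGroup_congr e).2 Cfsg.Agent.SporadicA.MathieuRecog.simple_M22
  card := by
    obtain ⟨e⟩ := h
    rw [Nat.card_congr e.toEquiv, Cfsg.Agent.SporadicA.MathieuRecog.card_M22]
  inn := by
    obtain ⟨e⟩ := h
    refine OddInn.congr e (BpSpor.Inn.of_pow fun φ => ?_)
    obtain ⟨d, hd, hφ⟩ := exists_conj φ
    refine ⟨⟨d * d, sq_mem_M22 hd⟩, ?_⟩
    ext1 x
    apply Subtype.ext
    show d * d * (x : Equiv.Perm GolayPt) * (d * d)⁻¹ = (((φ ^ 2) x : ↥Spor.M22) : Equiv.Perm GolayPt)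
    rw [pow_two, MulAut.mul_apply, hφ, hφ]
    group

end twentytwo

instance finite_m22 : Finite Spor.M22 := Nat.finite_of_card_ne_zero (by
  rw [Cfsg.Agent.SporadicA.MathieuRecog.card_M22]; norm_num)

theorem moved_m22 : Moved 3 Spor.M22 :=
  moved_of_one Nat.prime_three (by norm_num) fun _ _ hx hy => Cfsg.Agent.H337.M22Three.isConj_three hx hy

theorem row_M22 {G : Type u} [Group G] [Finite G] (h : Spor.IsoM22 G) : Row G := by
  refine row_of_dat (dat_m22 h) (l := [(2, 7), (3, 2), (5, 1), (7, 1), (11, 1)]) (by decide +kernel) (by norm_num)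
    (fun x hx hx2 hx3 => ?_)
  simp only [List.mem_cons, List.not_mem_nil, or_false] at hx
  rcases hx with rfl | rfl | rfl | rfl | rfl
  · exact absurd rfl hx3
  · obtain ⟨e⟩ := h
    exact moved_m22.congr e
  · exact absurd hx2 (by norm_num)
  · exact absurd hx2 (by norm_num)
  · exact absurd hx2 (by norm_num)

/-! ### `M₂₃` -/

theorem dat_m23 {K : Type u} [Group K] (h : Spor.IsoM23 K) : Dat K 10200960 where
  simple := by
    obtain ⟨e⟩ := h
    exact (MulEquiv.isSimpleGroup_congr e).2 Cfsg.Agent.Omega.TwoF.simple_M23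
  card := by
    obtain ⟨e⟩ := h
    rw [Nat.card_congr e.toEquiv, Cfsg.Agent.SporadicA.MathieuRecog.card_M23]
  inn := by
    obtain ⟨e⟩ := h
    exact OddInn.congr e (BpSpor.Inn.of_inner fun α => Cfsg.Agent.UGT.MTwentyThree.Aut.exists_conj α)

/-- the power of `p` dividing `N = p ^ k * m`, `p ∤ m` -/
theorem pow_dvd_of {p k m : ℕ} (hp : p.Prime) (hm : ¬ p ∣ m) {j : ℕ} (h : p ^ j ∣ p ^ k * m) : p ^ j ∣ p ^ k :=
  (Nat.Coprime.pow_left j ((Nat.Prime.coprime_iff_not_dvd hp).2 hm)).dvd_of_dvd_mul_right h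

theorem row_M23 {G : Type u} [Group G] [Finite G] (h : Spor.IsoM23 G) : Row G := by
  refine row_of_dat (dat_m23 h) (l := [(2, 7), (3, 2), (5, 1), (7, 1), (11, 1), (23, 1)]) (by decide +kernel)
    (by norm_num) (fun x hx hx2 hx3 => ?_)
  simp only [List.mem_cons, List.not_mem_nil, or_false] at hx
  rcases hx with rfl | rfl | rfl | rfl | rfl | rfl
  · exact absurd rfl hx3
  · obtain ⟨e⟩ := h
    have : Finite Spor.M23 := Finite.of_equiv G e.toEquiv
    have : Fact (Nat.Prime 3) := ⟨Nat.prime_three⟩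
    have hle : Spor.M22 ≤ Spor.M23 := inf_le_left
    refine (Moved.of_hom (inclusion hle) (inclusion_injective hle) ?_ moved_m22).congr e
    intro k hk
    rw [Cfsg.Agent.SporadicA.MathieuRecog.card_M23, show (10200960 : ℕ) = 3 ^ 2 * 1133440 by norm_num] at hk
    rw [Cfsg.Agent.SporadicA.MathieuRecog.card_M22]
    exact (pow_dvd_of Nat.prime_three (by norm_num) hk).trans (by norm_num)
  · exact absurd hx2 (by norm_num)
  · exact absurd hx2 (by norm_num)
  · exact absurd hx2 (by norm_num)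
  · exact absurd hx2 (by norm_num)

/-! ### `M₂₄` -/

theorem dat_m24 {K : Type u} [Group K] (h : Spor.IsoM24 K) : Dat K 244823040 where
  simple := by
    obtain ⟨e⟩ := h
    exact (MulEquiv.isSimpleGroup_congr e).2 Cfsg.Agent.S0365.result
  card := by
    obtain ⟨e⟩ := h
    rw [Nat.card_congr e.toEquiv, Cfsg.Agent.S0364.result]
  inn := by
    obtain ⟨e⟩ := h
    exact OddInn.congr e (BpSpor.Inn.of_inner fun α => Cfsg.Agent.KFacts.M24Two.Out.exists_conj α)

section twentyfour

open Cfsg.Agent.SporadicStructure.M24El Cfsg.Agent.H865.Three Cfsg.Agent.H865.ThreeClasses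
open Cfsg.Agent.SporadicA.GolayBase Cfsg.Agent.SporadicA.GolayPerm

theorem nfx_elA : nfx (el A : Equiv.Perm GolayPt) = 6 := by
  unfold nfx
  rw [Finset.filter_congr fun p _ => fx_el okA p]
  decide +kernel

theorem nfx_elB : nfx (el B : Equiv.Perm GolayPt) = 0 := by
  unfold nfx
  rw [Finset.filter_congr fun p _ => fx_el okB p]
  decide +kernel

theorem real_m24 {x : M24} (hx : orderOf x = 3) : IsConj x x⁻¹ := by
  have key : ∀ y : M24, orderOf y = 3 → IsConj y (el A) ∨ IsConj y (el B) := by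
    intro y hy
    obtain ⟨c, hc | hc⟩ := conj_of_orderOf hy
    · exact Or.inl (isConj_iff.2 ⟨c, hc⟩)
    · exact Or.inr (isConj_iff.2 ⟨c, hc⟩)
  refine isConj_inv_of_two (fun g : M24 => nfx (g : Equiv.Perm GolayPt)) (fun g x => nfx_conj _ _)
    (fun x => nfx_inv _) (A := el A) (B := el B) ?_ (key x hx) (key x⁻¹ (by rw [orderOf_inv, hx]))
  show nfx (el A : Equiv.Perm GolayPt) ≠ nfx (el B : Equiv.Perm GolayPt)
  rw [nfx_elA, nfx_elB]
  norm_num

end twentyfour

theorem row_M24 {G : Type u} [Group G] [Finite G] (h : Spor.IsoM24 G) : Row G := by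
  refine row_of_dat (dat_m24 h) (l := [(2, 10), (3, 3), (5, 1), (7, 1), (11, 1), (23, 1)]) (by decide +kernel)
    (by norm_num) (fun x hx hx2 hx3 => ?_)
  simp only [List.mem_cons, List.not_mem_nil, or_false] at hx
  rcases hx with rfl | rfl | rfl | rfl | rfl | rfl
  · exact absurd rfl hx3
  · obtain ⟨e⟩ := h
    have : Finite M24 := Finite.of_equiv G e.toEquiv
    exact (moved_of_real Nat.prime_three (by norm_num) fun y hy => real_m24 hy).congr e
  · exact absurd hx2 (by norm_num)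
  · exact absurd hx2 (by norm_num)
  · exact absurd hx2 (by norm_num)
  · exact absurd hx2 (by norm_num)

/-! ### `J₁` -/

theorem dat_j1 {K : Type u} [Group K] (h : Spor.IsoJ1 K) : Dat K 175560 where
  simple := by
    obtain ⟨e⟩ := h
    exact (MulEquiv.isSimpleGroup_congr e).2 Cfsg.Agent.SporadicB.J1.Main.isJ1.1
  card := by
    obtain ⟨e⟩ := h
    rw [Nat.card_congr e.toEquiv, Cfsg.Agent.SporadicB.J1.Main.isJ1.2]
  inn := by
    obtain ⟨e⟩ := h
    exact OddInn.congr e (BpSpor.Inn.of_inner fun α => Cfsg.Agent.OddHalf.D4.Spor.J1Out.inn α)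

theorem row_J1 {G : Type u} [Group G] [Finite G] (h : Spor.IsoJ1 G) : Row G := by
  refine row_of_dat (dat_j1 h) (l := [(2, 3), (3, 1), (5, 1), (7, 1), (11, 1), (19, 1)]) (by decide +kernel)
    (by norm_num) (fun x hx hx2 hx3 => ?_)
  simp only [List.mem_cons, List.not_mem_nil, or_false] at hx
  rcases hx with rfl | rfl | rfl | rfl | rfl | rfl
  · exact absurd rfl hx3
  all_goals exact absurd hx2 (by norm_num)

end Cfsg.Agent.H497.Stein
end

-- part: H497/Stein/HSMc
section
/-!
# S4114: the rows `HS` and `McL` (helper497)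
-/

set_option autoImplicit false
set_option linter.unusedSectionVars false

namespace Cfsg.Agent.H497.Stein

open Subgroup Cfsg Cfsg.Agent.H520
open Cfsg.Agent.BpSpor (Dat)
open Cfsg.Agent.BpSpor.Inn (OddInn)

universe u

/-! ### `p = 5` from `PSU₃(5)` -/

section five

open Cfsg.Agent.H792.SpU35 Cfsg.Agent.SporStruct.U35K50 Cfsg.Agent.H792.SpCube

theorem moved_K50 : Moved 5 K50 := by
  have hp : Fact (Nat.Prime 5) := ⟨by norm_num⟩
  have hcx : c * x * c⁻¹ = y := rfl
  refine moved_of_heis' (p := 5) (by norm_num) (by rw [card_K50]; norm_num) heis (c := c * c) (a := 3) (u := 0) (v := 0)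
    (by norm_num) (by norm_num) ?_ ?_
  · calc c * c * x * (c * c)⁻¹ = c * (c * x * c⁻¹) * c⁻¹ := by group
      _ = c * y * c⁻¹ := by rw [hcx]
      _ = x * x * x := cy
      _ = x ^ 3 * z ^ (0 : ℤ) := by rw [zpow_zero, mul_one, pow_succ, pow_two]
  · calc c * c * y * (c * c)⁻¹ = c * (c * y * c⁻¹) * c⁻¹ := by group
      _ = c * (x * x * x) * c⁻¹ := by rw [cy]
      _ = (c * x * c⁻¹) * (c * x * c⁻¹) * (c * x * c⁻¹) := by group
      _ = y * y * y := by rw [hcx]
      _ = y ^ 3 * z ^ (0 : ℤ) := by rw [zpow_zero, mul_one, pow_succ, pow_two]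

/-- a subgroup of the automorphism group of the lattice containing `PSU₃(5)` with index prime to `5` -/
theorem Tri.moved {v w x : leechLattice} (T : Tri v w x) (K : Subgroup (Equiv.Perm leechLattice)) [Finite K] {m : ℕ}
    (hm : Nat.card K = 5 ^ 3 * m) (h5 : ¬ 5 ∣ m)
    (hK : ∀ g : Co0, g • v = v → g • w = w → g • x = x → (g : Equiv.Perm leechLattice) ∈ K) : Moved 5 K := by
  have hp : Fact (Nat.Prime 5) := ⟨by norm_num⟩
  obtain ⟨F, _, _, hF⟩ := exists_field
  obtain ⟨e⟩ := T.exists_hom hF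
  obtain ⟨e'⟩ := Cfsg.Agent.SporStruct.U35Iso.psu35_iso F hF
  let W := MulAction.stabilizer Co0 v ⊓ MulAction.stabilizer Co0 w ⊓ MulAction.stabilizer Co0 x
  let f : W →* K := (Co0.subtype.comp W.subtype).codRestrict K fun g => hK g.1 g.2.1.1 g.2.1.2 g.2.2
  have hf : Function.Injective f := by
    intro a b h
    have h1 := congrArg Subtype.val h
    exact Subtype.ext (Subtype.ext h1)
  have h1 : Moved 5 W := moved_K50.congr (e.symm.trans e')
  have hW : Nat.card W = 126000 := by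
    rw [← card_K50]
    exact Nat.card_congr (e.symm.trans e').toEquiv
  refine Moved.of_hom f hf (fun k hk => ?_) h1
  rw [hm] at hk
  rw [hW]
  exact (pow_dvd_of (by norm_num) h5 hk).trans (by norm_num)

end five

/-! ### `HS` -/

section hs

open Cfsg.Agent.H792.SpU35 Cfsg.Agent.SporadicA.Co0Mono Cfsg.Agent.SporadicA.MathieuRecog
open Cfsg.Agent.CoOneType.Thirteen (permCo0_injective)

theorem finite_HS : Finite Spor.HS := Nat.finite_of_card_ne_zero (by rw [card_HS]; norm_num)

theorem smul_V {σ : M24} (h : (σ : Equiv.Perm GolayPt) none = none) : permCo0 σ • Spor.leechV = Spor.leechV := by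
  apply Subtype.ext
  rw [permCo0_smul]
  funext p
  rw [permMap_apply]
  show (if (σ : Equiv.Perm GolayPt).symm p = none then (-5 : ℤ) else -1) = if p = none then -5 else -1
  have h1 : (σ : Equiv.Perm GolayPt).symm p = none ↔ p = none := by
    rw [Equiv.symm_apply_eq, h]
  simp only [h1]

theorem smul_U' {σ : M24} (h : (σ : Equiv.Perm GolayPt) none = none) (h0 : (σ : Equiv.Perm GolayPt) (some 0) = some 0) :
    permCo0 σ • Spor.leechU' = Spor.leechU' := by
  apply Subtype.ext
  rw [permCo0_smul]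
  funext p
  rw [permMap_apply]
  show (if (σ : Equiv.Perm GolayPt).symm p = none then (4 : ℤ) else
    if (σ : Equiv.Perm GolayPt).symm p = some 0 then -4 else 0) = if p = none then 4 else if p = some 0 then -4 else 0
  have h1 : (σ : Equiv.Perm GolayPt).symm p = none ↔ p = none := by
    rw [Equiv.symm_apply_eq, h]
  have h2 : (σ : Equiv.Perm GolayPt).symm p = some 0 ↔ p = some 0 := by
    rw [Equiv.symm_apply_eq, h0]
  simp only [h1, h2]

/-- `M₂₂ ≤ HS` -/
theorem exists_mHS : ∃ f : Spor.M22 →* Spor.HS, Function.Injective f := by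
  have hle : Spor.M22 ≤ M24 := fun g hg => ((mem_M22_iff g).1 hg).1
  let i : Spor.M22 →* M24 := inclusion hle
  let f : Spor.M22 →* Spor.HS := (Co0.subtype.comp (permCo0.comp i)).codRestrict Spor.HS fun g =>
    ⟨⟨(permCo0 (i g)).2, smul_V ((mem_M22_iff g.1).1 g.2).2.1⟩,
      smul_U' ((mem_M22_iff g.1).1 g.2).2.1 ((mem_M22_iff g.1).1 g.2).2.2⟩
  refine ⟨f, fun a b h => ?_⟩
  have h1 : (f a : Equiv.Perm leechLattice) = f b := by rw [h]
  have h2 : permCo0 (i a) = permCo0 (i b) := Subtype.ext h1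
  exact inclusion_injective hle (permCo0_injective h2)

theorem moved_hs_three : Moved 3 Spor.HS := by
  have := finite_HS
  have : Fact (Nat.Prime 3) := ⟨Nat.prime_three⟩
  obtain ⟨f, hf⟩ := exists_mHS
  refine Moved.of_hom f hf (fun k hk => ?_) moved_m22
  rw [card_HS, show (44352000 : ℕ) = 3 ^ 2 * 4928000 by norm_num] at hk
  rw [card_M22]
  exact (pow_dvd_of Nat.prime_three (by norm_num) hk).trans (by norm_num)

theorem moved_hs_five : Moved 5 Spor.HS := by
  have := finite_HS
  obtain ⟨x, T⟩ := exists_tri sq_V hs_pair.1 hs_pair.2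
  exact Tri.moved T Spor.HS (m := 354816) (by rw [card_HS]; norm_num) (by norm_num) fun g h1 h2 _ => mem_HS h1 h2

end hs

theorem row_HS {G : Type u} [Group G] [Finite G] (h : Spor.IsoHS G) : Row G := by
  refine row_of_dat (Cfsg.Agent.BpSpor.Row.dat_hs h) (l := [(2, 9), (3, 2), (5, 3), (7, 1), (11, 1)])
    (by decide +kernel) (by norm_num) (fun x hx hx2 hx3 => ?_)
  simp only [List.mem_cons, List.not_mem_nil, or_false] at hx
  obtain ⟨e⟩ := h
  rcases hx with rfl | rfl | rfl | rfl | rfl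
  · exact absurd rfl hx3
  · exact moved_hs_three.congr e
  · exact moved_hs_five.congr e
  · exact absurd hx2 (by norm_num)
  · exact absurd hx2 (by norm_num)

/-! ### `McL` -/

section mcl

open Equiv Equiv.Perm
open Cfsg.Agent.H792.SpU35

theorem cycleType_cases {y : Perm (Fin 8)} (hy : orderOf y = 3) : y.cycleType = {3} ∨ y.cycleType = {3, 3} := by
  obtain ⟨n, hn⟩ := cycleType_prime_order (σ := y) (by rw [hy]; exact Nat.prime_three)
  rw [hy] at hn
  have h2 : y.cycleType.sum ≤ Fintype.card (Fin 8) := by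
    rw [sum_cycleType]
    exact Finset.card_le_univ _
  rw [hn, Multiset.sum_replicate, Fintype.card_fin, smul_eq_mul] at h2
  have hn2 : n ≤ 1 := by omega
  rw [hn]
  interval_cases n
  · left; rfl
  · right; rfl

theorem exists_comm_swap {y : Perm (Fin 8)} (hy : orderOf y = 3) :
    ∃ a b : Fin 8, a ≠ b ∧ swap a b * y = y * swap a b := by
  have hs : y.support.card ≤ 6 := by
    rw [← sum_cycleType]
    rcases cycleType_cases hy with h | h <;> rw [h] <;> decide
  have h1 : 2 ≤ (y.supportᶜ).card := by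
    rw [Finset.card_compl, Fintype.card_fin]
    omega
  obtain ⟨a, ha, b, hb, hab⟩ := Finset.one_lt_card.1 h1
  refine ⟨a, b, hab, ?_⟩
  rw [Finset.mem_compl, mem_support, not_not] at ha hb
  rw [swap_mul_eq_mul_swap]
  have h2 : y⁻¹ a = a := by rw [inv_eq_iff_eq, ha]
  have h3 : y⁻¹ b = b := by rw [inv_eq_iff_eq, hb]
  rw [h2, h3]

/-- the elements of order 3 of the alternating group of degree 8 are real -/
theorem real_alt8 {y : Perm (Fin 8)} (hy : orderOf y = 3) :
    ∃ a ∈ alternatingGroup (Fin 8), a * y * a⁻¹ = y⁻¹ := by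
  have h1 : IsConj y y⁻¹ := by rw [isConj_iff_cycleType_eq, cycleType_inv]
  obtain ⟨c, hc⟩ := isConj_iff.1 h1
  by_cases hs : sign c = 1
  · exact ⟨c, mem_alternatingGroup.2 hs, hc⟩
  · obtain ⟨a, b, hab, hcomm⟩ := exists_comm_swap hy
    refine ⟨c * swap a b, mem_alternatingGroup.2 ?_, ?_⟩
    · rw [Perm.sign_mul, sign_swap hab, (Int.units_eq_one_or (sign c)).resolve_left hs]
      rfl
    · calc c * swap a b * y * (c * swap a b)⁻¹ = c * (swap a b * y) * (swap a b)⁻¹ * c⁻¹ := by group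
        _ = c * (y * swap a b) * (swap a b)⁻¹ * c⁻¹ := by rw [hcomm]
        _ = c * y * c⁻¹ := by group
        _ = y⁻¹ := hc

theorem real_cover {C : Type*} [Group C] (K : Cfsg.Agent.SporRec.TwoAn.Cover (Fin 8) C) {y : C} (hy : orderOf y = 3)
    (hz : ∀ g : C, g * K.z = K.z * g) : IsConj y y⁻¹ := by
  have hy3 : y ^ 3 = 1 := orderOf_dvd_iff_pow_eq_one.1 hy.dvd
  have hzz : K.z * K.z = 1 := K.z_mul_z
  have hyb : orderOf (K.π y) = 3 := by
    refine orderOf_eq_prime (by rw [← map_pow, hy3, map_one]) fun h => ?_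
    rcases (K.ker y).1 h with h1 | h1
    · rw [h1, orderOf_one] at hy
      omega
    · rw [h1] at hy3
      have h2 : K.z ^ 3 = K.z := by rw [pow_succ, pow_two, hzz, one_mul]
      rw [h2] at hy3
      exact K.z_ne hy3
  obtain ⟨a, ha, hay⟩ := real_alt8 hyb
  rw [← K.range_eq] at ha
  obtain ⟨g, rfl⟩ := ha
  have h1 : K.π (y * (g * y * g⁻¹)) = 1 := by
    rw [map_mul, map_mul, map_mul, map_inv, hay, mul_inv_cancel]
  rcases (K.ker _).1 h1 with h2 | h2
  · exact isConj_iff.2 ⟨g, by rw [eq_comm, inv_eq_iff_mul_eq_one, h2]⟩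
  · exfalso
    have h3 : g * y * g⁻¹ = y⁻¹ * K.z := by rw [← h2, inv_mul_cancel_left]
    have h4 : (g * y * g⁻¹) ^ 3 = 1 := by rw [conj_pow, hy3, mul_one, mul_inv_cancel]
    rw [h3, (show Commute y⁻¹ K.z from hz _).mul_pow, inv_pow, hy3, inv_one, one_mul, pow_succ, pow_two, hzz,
      one_mul] at h4
    exact K.z_ne h4

theorem moved_mcl_three {M : Type u} [Group M] [Finite M] (h : Spor.IsoMcL M) : Moved 3 M := by
  obtain ⟨-, -, -, ⟨L⟩⟩ := Cfsg.Agent.TypeM.FactsMcL.facts h
  refine moved_of_real Nat.prime_three (by norm_num) fun y hy => ?_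
  obtain ⟨s, hs, hsy⟩ := Cfsg.Agent.McLType.ThreeElts.exists_commuting_involution_of_iso h y hy
  have hss : s * s = 1 := by rw [← pow_two]; exact orderOf_dvd_iff_pow_eq_one.1 hs.dvd
  have hs1 : s ≠ 1 := by
    rintro rfl
    rw [orderOf_one] at hs
    omega
  obtain ⟨g, hg⟩ := L.one s hss hs1
  have hc : g⁻¹ * y * g ∈ centralizer ({L.t} : Set M) := by
    rw [mem_centralizer_singleton_iff]
    calc g⁻¹ * y * g * L.t = g⁻¹ * (y * (g * L.t * g⁻¹)) * g := by group
      _ = g⁻¹ * ((g * L.t * g⁻¹) * y) * g := by rw [hg, hsy]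
      _ = L.t * (g⁻¹ * y * g) := by group
  have hzc : ∀ k : ↥(centralizer ({L.t} : Set M)), k * L.K.z = L.K.z * k := by
    intro k
    apply Subtype.ext
    show (k : M) * (L.K.z : M) = L.K.z * k
    rw [L.hz]
    exact mem_centralizer_singleton_iff.1 k.2
  have ho : orderOf (⟨g⁻¹ * y * g, hc⟩ : ↥(centralizer ({L.t} : Set M))) = 3 := by
    rw [orderOf_mk, ← hy]
    have h1 : g⁻¹ * y * g = MulAut.conj g⁻¹ y := by rw [MulAut.conj_apply, inv_inv]
    rw [h1, MulEquiv.orderOf_eq]
  obtain ⟨k, hk⟩ := isConj_iff.1 (real_cover L.K ho hzc)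
  have hk' : (k : M) * (g⁻¹ * y * g) * (k : M)⁻¹ = (g⁻¹ * y * g)⁻¹ := congrArg Subtype.val hk
  refine isConj_iff.2 ⟨g * k * g⁻¹, ?_⟩
  calc g * (k : M) * g⁻¹ * y * (g * k * g⁻¹)⁻¹ = g * ((k : M) * (g⁻¹ * y * g) * (k : M)⁻¹) * g⁻¹ := by group
    _ = y⁻¹ := by rw [hk']; group

theorem moved_mcl_five : Moved 5 Spor.McL := by
  have : Finite Spor.McL := Nat.finite_of_card_ne_zero (by rw [card_McL]; norm_num)
  obtain ⟨x, T⟩ := exists_tri_mcl
  exact Tri.moved T Spor.McL (m := 7185024) (by rw [card_McL]; norm_num) (by norm_num)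
    fun g _ h1 h2 => ⟨⟨g.2, h1⟩, h2⟩

theorem dat_mcl {K : Type u} [Group K] (h : Spor.IsoMcL K) : Dat K 898128000 where
  simple := by
    obtain ⟨e⟩ := h
    exact (MulEquiv.isSimpleGroup_congr e).2 Cfsg.Agent.Schreier.McLaughlin.isSimple_mcl
  card := by
    obtain ⟨e⟩ := h
    rw [Nat.card_congr e.toEquiv, Cfsg.Agent.Schreier.McLaughlin.card_mcl]
  inn := by
    obtain ⟨hfin, hs, hcard, ⟨L⟩⟩ := Cfsg.Agent.TypeM.FactsMcL.facts h
    intro p hp hp2 α hα
    have h1 : Odd (orderOf α) := by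
      rw [hα]
      exact hp.odd_of_ne_two hp2
    obtain ⟨g, hg⟩ := Cfsg.Agent.UGT.End.McLOuter.inner_of_odd L hcard α h1
    exact ⟨g, hg.symm⟩

end mcl

theorem row_McL {G : Type u} [Group G] [Finite G] (h : Spor.IsoMcL G) : Row G := by
  refine row_of_dat (dat_mcl h) (l := [(2, 7), (3, 6), (5, 3), (7, 1), (11, 1)])
    (by decide +kernel) (by norm_num) (fun x hx hx2 hx3 => ?_)
  simp only [List.mem_cons, List.not_mem_nil, or_false] at hx
  rcases hx with rfl | rfl | rfl | rfl | rfl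
  · exact absurd rfl hx3
  · exact moved_mcl_three h
  · obtain ⟨e⟩ := h
    exact moved_mcl_five.congr e
  · exact absurd hx2 (by norm_num)
  · exact absurd hx2 (by norm_num)

end Cfsg.Agent.H497.Stein
end
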