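import Cfsg.Agent.H763.Ccp.Alt_m3
import Cfsg.Agent.H513.AbTh
import Cfsg.Agent.H497.Stein.Eng
import Cfsg.Agent.H859.ClassEleven
import Cfsg.Agent.H856.SylowThree
import Cfsg.Agent.KFacts.J4.Base
import Cfsg.Agent.H85.RelStr_m3
import Cfsg.Agent.H497.Stein.Heis
import Cfsg.Agent.H999.ONFiveCent
import Cfsg.Agent.BpSpor.ONanThree
import Cfsg.Agent.H497.Stein.HSMc
import Cfsg.Agent.CpAutLy.Row
import Cfsg.Agent.R10.FiveComm
import Cfsg.Agent.H478.RadTools_m3
import Cfsg.Agent.H345.IRowCo3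
import Cfsg.Agent.BpSpor.CoThreeFive
import Cfsg.Agent.H839.SeventeenMain_m3
import Cfsg.Agent.BpSpor.FiTThFive
import Cfsg.Agent.H566.BNPerm_m3
import Cfsg.Agent.SignalizersComponents.ComponentExists
import Cfsg.Agent.H287.OutFi24_m3
import Cfsg.Agent.H491.Rad3.FiTF
import Cfsg.Agent.H415.HeRows
import Cfsg.Agent.H70.RowHe
import Cfsg.Agent.BpSpor.Row.He
import Cfsg.Agent.H868.HeFi24
import Cfsg.Agent.Schreier.ChevIso_m3
import Cfsg.Agent.BpSpor.Row.Fi24
import Cfsg.Agent.H87.TitsData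
import Cfsg.Agent.BpSpor.Row.Tits_m3
import Cfsg.Agent.H526.SpMcL
import Cfsg.Agent.BpSpor.SuzThreeCentral
import Cfsg.Agent.SporadicA.M11Facts2
import Cfsg.Agent.Cit.Eleven
import Cfsg.Agent.H285.Ccp.HNThree_m3
import Cfsg.Agent.H285.Ccp.HNFive
import Cfsg.Agent.H184.Fi22Three
import Cfsg.Agent.Lib.FinFast
import Cfsg.Agent.FastGrp
import Cfsg.Agent.Prune
set_option linter.all false

section
prune_inst 0x7f00000000000000000000000000000000000000000000000000000000000000000000000000000000000000000000000000000000000000000000000000000000000000000000000000000000000000003fffffffffffffffffffffffffffbeffbdffffffff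

-- part: H497/Stein/Th_mg
section
set_option linter.all false
open scoped Cfsg.Agent.FastGrp

-- part: H497/Stein/Th
section
/-!
# S4114: the row `Th` (helper497)

The elements of order 3, 5, 7 of `C(a) = 2^{1+8}.A₉` are real (their images in `A₉` are). The elements of order 5 and 7 of
`Th` commute with involutions; for 3 the pair engine is enough.
-/

set_option autoImplicit false
set_option maxRecDepth 100000

namespace Cfsg.Agent.H497.Stein.Th

open Subgroup Cfsg Cfsg.Agent.H520 Cfsg.Agent.H497.Stein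
open Cfsg.Agent.Th.Base Cfsg.Agent.Th.Word Cfsg.Agent.Th.KOracle Cfsg.Agent.Th.CStruct
  Cfsg.Agent.Th.COracleDef Cfsg.Agent.Th.IndexUpper
open Cfsg.Agent.KFacts.Th.Mask Cfsg.Agent.KFacts.Th.Struct
open Cfsg.Agent.CpAutTh.Data Cfsg.Agent.CpAutTh.Alt Cfsg.Agent.CpAutTh.Local

universe u

section

variable {G : Type u} [Group G] {γ : ℕ → G} (h : Ctx γ)
  {f : sub γ isC →* alternatingGroup (Fin 9)} (F : Epi γ f)
include h F

theorem real_word {p : ℕ} (hp : p.Prime) (hp2 : p ≠ 2) {X : List ℕ} (hX : ∀ x ∈ X, isC x = true)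
    (ho : orderOf (⟨ev γ X, ev_mem_sub hX⟩ : sub γ isC) = p) (c : Equiv.Perm (Fin 9)) (hc : Equiv.Perm.sign c = -1)
    (hcc : c * pm9 X = pm9 X * c) :
    ∃ g : sub γ isC, g * (⟨ev γ X, ev_mem_sub hX⟩ : sub γ isC)⁻¹ * g⁻¹ = ⟨ev γ X, ev_mem_sub hX⟩ := by
  refine conj_rep h F hp hp2 (by rw [orderOf_inv, ho]) ho ?_ c hc (by rw [F.word X hX]; exact hcc)
  rw [map_inv, InvMemClass.coe_inv, Equiv.Perm.cycleType_inv]

omit h F in
theorem real_of_rep {C : Type*} [Group C] {x w g k : C} (hg : g * x * g⁻¹ = w) (hk : k * w⁻¹ * k⁻¹ = w) : IsConj x x⁻¹ := by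
  have h1 : IsConj x w := isConj_iff.2 ⟨g, hg⟩
  have h2 : IsConj w⁻¹ w := isConj_iff.2 ⟨k, hk⟩
  have h3 : IsConj x⁻¹ w⁻¹ := isConj_iff.2 ⟨g, by rw [← hg]; group⟩
  exact h1.trans (h3.trans h2).symm

theorem real_C {p : ℕ} (h357 : p = 3 ∨ p = 5 ∨ p = 7) {x : sub γ isC} (hx : orderOf x = p) : IsConj x x⁻¹ := by
  rcases h357 with rfl | rfl | rfl
  · obtain ⟨g, hg | hg | hg⟩ := exists_rep_three h F hx
    · obtain ⟨k, hk⟩ := real_word h F Nat.prime_three (by norm_num) c3 (o3 h F) c01 s01 m3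
      exact real_of_rep hg hk
    · obtain ⟨k, hk⟩ := real_word h F Nat.prime_three (by norm_num) c33 (o33 h F) c01 s01 m33
      exact real_of_rep hg hk
    · obtain ⟨k, hk⟩ := real_word h F Nat.prime_three (by norm_num) c333 (o333 h F) ccc sccc m333
      exact real_of_rep hg hk
  · obtain ⟨g, hg⟩ := exists_rep_five h F hx
    obtain ⟨k, hk⟩ := real_word h F Nat.prime_five (by norm_num) c5 (o5 h F) c01 s01 m5
    exact real_of_rep hg hk
  · obtain ⟨g, hg⟩ := exists_rep_seven h F hx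
    obtain ⟨k, hk⟩ := real_word h F (by norm_num) (by norm_num) c7 (o7 h F) c01 s01 m7
    exact real_of_rep hg hk

end

instance fin : Finite Spor.Th := Cfsg.Agent.KFacts.Th.Main.finite

/-- elements of order 3, 5, 7 commuting with an involution are real -/
theorem real_pair {p : ℕ} (h357 : p = 3 ∨ p = 5 ∨ p = 7) {y s : Spor.Th} (hy : orderOf y = p) (hs : orderOf s = 2)
    (hsy : s * y = y * s) : IsConj y y⁻¹ := by
  have h := Cfsg.Agent.KFacts.Th.Main.ctx
  obtain ⟨f, F⟩ := exists_epi h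
  obtain ⟨g, hg⟩ := Cfsg.Agent.ThFive.hone s hs
  have h1 : g * y * g⁻¹ ∈ sub gTh isC := by
    rw [h.mem_C, ← hg]
    calc g * y * g⁻¹ * (g * s * g⁻¹) = g * (y * s) * g⁻¹ := by group
      _ = g * (s * y) * g⁻¹ := by rw [hsy]
      _ = g * s * g⁻¹ * (g * y * g⁻¹) := by group
  have h2 : orderOf (⟨g * y * g⁻¹, h1⟩ : sub gTh isC) = p := by
    rw [← hy, ← orderOf_injective (sub gTh isC).subtype (Subgroup.subtype_injective _)]
    exact orderOf_injective (MulAut.conj g).toMonoidHom (MulAut.conj g).injective y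
  obtain ⟨c, hc⟩ := isConj_iff.1 (real_C h F h357 h2)
  have h4 : IsConj (g * y * g⁻¹) (g * y * g⁻¹)⁻¹ := isConj_iff.2 ⟨c, congrArg Subtype.val hc⟩
  have h5 : IsConj y (g * y * g⁻¹) := isConj_iff.2 ⟨g, rfl⟩
  have h6 : IsConj y⁻¹ (g * y * g⁻¹)⁻¹ := isConj_iff.2 ⟨g, by group⟩
  exact h5.trans (h4.trans h6.symm)

theorem movedPair {p : ℕ} (h357 : p = 3 ∨ p = 5 ∨ p = 7) : MovedPair p 2 Spor.Th := by
  intro y s hy hs hsy
  have hp : p.Prime := by rcases h357 with rfl | rfl | rfl <;> norm_num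
  have hp2 : p ≠ 2 := by rcases h357 with rfl | rfl | rfl <;> norm_num
  exact movedAt_of_real (real_pair h357 hy hs hsy) (sq_ne_one hp hp2 hy)

theorem moved_five : Moved 5 Spor.Th :=
  moved_of_pair (movedPair (Or.inr (Or.inl rfl))) fun y hy => Cfsg.Agent.H513.NilpTh.involution y hy

theorem moved_seven : Moved 7 Spor.Th := by
  refine moved_of_pair (movedPair (Or.inr (Or.inr rfl))) fun y hy => ?_
  have h2F : Fact (Nat.Prime 2) := ⟨Nat.prime_two⟩
  have h1 : 2 ∣ Nat.card ↥(centralizer ({y} : Set Spor.Th)) := by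
    rcases Cfsg.Agent.H513.AbTh.cent_seven hy with h | h <;> rw [h] <;> norm_num
  obtain ⟨s, hs⟩ := exists_prime_orderOf_dvd_card' 2 h1
  refine ⟨s, by rw [Subgroup.orderOf_coe]; exact hs, mem_centralizer_singleton_iff.1 s.2⟩

/-- **S4114, the row `Th`.** -/
theorem row : Row Spor.Th := by
  have hs := Cfsg.Agent.H513.AbTh.simple
  have hc := Cfsg.Agent.H513.NilpTh.card
  have hv : OrdDiv.valid [(2, 15), (3, 10), (5, 3), (7, 2), (13, 1), (19, 1), (31, 1)] 90745943887872000 = true := by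
    decide +kernel
  refine row_of_pair Nat.prime_three (by rw [hc]; norm_num) (by rw [hc]; norm_num)
    (fun p _ α _ => Cfsg.Agent.KFacts.Th.Main.inner α) ?_ (movedPair (Or.inl rfl))
  intro p hp hp2 hp3 _
  have hna := not_comm_of_card hs (by rw [hc]; norm_num)
  by_cases h : p ^ 2 ∣ 90745943887872000
  · obtain ⟨k, hk, h2k⟩ := OrdDiv.exists_pair hv hp (by norm_num : 1 ≤ 2) h
    simp only [List.mem_cons, List.not_mem_nil, or_false, Prod.mk.injEq] at hk
    rcases hk with ⟨rfl, rfl⟩ | ⟨rfl, rfl⟩ | ⟨rfl, rfl⟩ | ⟨rfl, rfl⟩ | ⟨rfl, rfl⟩ | ⟨rfl, rfl⟩ | ⟨rfl, rfl⟩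
    · exact absurd rfl hp2
    · exact absurd rfl hp3
    · exact moved_five
    · exact moved_seven
    all_goals exact absurd h2k (by norm_num)
  · exact moved_of_not_sq hna hp (by rw [hc]; exact h)

theorem row_Th {G : Type u} [Group G] [Finite G] (h : Cfsg.Spor.IsoTh G) : Row G := by
  obtain ⟨e⟩ := h
  exact row.congr e

end Cfsg.Agent.H497.Stein.Th
end

-- part: H859/Ccp/J4
section
/-!
# S4114: the row `J4` (helper859)

`moved_three`, `moved_eleven` : the elements of order 3 and 11 of `J4` are real.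
-/

set_option autoImplicit false

namespace Cfsg.Agent.H859.Ccp.J4

open Subgroup Cfsg Cfsg.Agent.H520 Cfsg.Agent.H497.Stein

universe u

theorem moved_three {K : Type u} [Group K] [Finite K] (h : Cfsg.Spor.IsoJ4 K) : Moved 3 K := by
  obtain ⟨hfin, hsim, ⟨F⟩⟩ := KFacts.J4.Base.exists_full h
  exact moved_of_one Nat.prime_three (by norm_num) fun x y hx hy => H856.SylowThree.one_class F.C hx hy

theorem moved_eleven : Moved 11 Cfsg.Spor.J4 := by
  obtain ⟨hfin, hsim, ⟨F⟩⟩ := KFacts.J4.Base.exists_full (K := Cfsg.Spor.J4) ⟨MulEquiv.refl _⟩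
  refine moved_of_real (by norm_num) (by norm_num) fun w hw => ?_
  have hw' : orderOf w⁻¹ = 11 := by rw [orderOf_inv, hw]
  have hc : centralizer ({w⁻¹} : Set Cfsg.Spor.J4) = centralizer {w} := by
    ext g
    rw [mem_centralizer_singleton_iff, mem_centralizer_singleton_iff]
    constructor
    · intro h
      have h1 : Commute g w⁻¹ := h
      exact (Commute.inv_right_iff.1 h1).eq
    · intro h
      have h1 : Commute g w := h
      exact (Commute.inv_right_iff.2 h1).eq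
  have h3 := SylEleven.card_centralizer_x
  have h4 := ClassEleven.eleven_dvd_centralizer
  rcases ClassEleven.isConj_or hw with h | h <;> rcases ClassEleven.isConj_or hw' with h' | h'
  · exact h.trans h'.symm
  · exfalso
    have h1 := ClassEleven.card_centralizer_conj h
    have h2 := ClassEleven.card_centralizer_conj h'
    rw [hc] at h2
    omega
  · exfalso
    have h1 := ClassEleven.card_centralizer_conj h
    have h2 := ClassEleven.card_centralizer_conj h'
    rw [hc] at h2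
    omega
  · exact h.trans h'.symm

/-- **S4114, the row `J4`.** -/
theorem row_J4 {G : Type u} [Group G] [Finite G] (h : Cfsg.Spor.IsoJ4 G) : Cfsg.Agent.H520.Row G := by
  have D := BpSpor.Row.dat_j4 h
  refine row_of_dat D (l := [(2, 21), (3, 3), (5, 1), (7, 1), (11, 3), (23, 1), (29, 1), (31, 1), (37, 1), (43, 1)])
    (by decide +kernel) (by norm_num) fun x hx hx2 hx3 => ?_
  simp only [List.mem_cons, List.not_mem_nil, or_false] at hx
  rcases hx with rfl | rfl | rfl | rfl | rfl | rfl | rfl | rfl | rfl | rfl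
  · exact absurd rfl hx3
  · exact moved_three h
  · exact absurd hx2 (by norm_num)
  · exact absurd hx2 (by norm_num)
  · obtain ⟨e⟩ := h
    exact moved_eleven.congr e
  all_goals exact absurd hx2 (by norm_num)

end Cfsg.Agent.H859.Ccp.J4
end

-- part: H859/Ccp/ON
section
/-!
# S4114: the row `O'N` (helper859)

`moved_three` (one class of elements of order 3), `moved_seven` (a torus element of `L₃(7)` acting as a scalar on
`7^{1+2}` modulo its centre).
-/

set_option autoImplicit false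

namespace Cfsg.Agent.H859.Ccp.ON

open Subgroup Cfsg Cfsg.Agent.H520 Cfsg.Agent.H497.Stein
open Cfsg.Agent.BpSpor.ONanThree (U U_mul U_zero U_pow U_seven um card_ON)
open Matrix

universe u

theorem finite_ON : Finite Spor.ON := Nat.finite_of_card_ne_zero (by rw [card_ON]; norm_num)

theorem moved_three : Moved 3 Spor.ON := by
  have := finite_ON
  exact moved_of_one Nat.prime_three (by norm_num) fun x y hx hy => H999.ONFiveCent.isConj_three hx hy

/-- the torus element `diag(2, 1, 4)` -/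
def tm : Matrix (Fin 3) (Fin 3) (ZMod 7) := !![2, 0, 0; 0, 1, 0; 0, 0, 4]

theorem det_tm : tm.det = 1 := by decide

theorem tm_um (a b c : ZMod 7) : tm * um a b c = um (2 * a) (2 * b) (4 * c) * tm := by
  have h8 : (8 : ZMod 7) = 1 := by decide
  have e1 : b = 2 * b * 4 := by linear_combination (-1) * b * h8
  have e2 : 2 * c = 4 * c * 4 := by linear_combination (-2) * c * h8
  ext i j
  fin_cases i <;> fin_cases j <;> simp [tm, um, Matrix.mul_apply, Fin.sum_univ_three]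
  · exact e2
  · exact e1

/-- the torus element `diag(2, 1, 4)` -/
def T : SpecialLinearGroup (Fin 3) (ZMod 7) := ⟨tm, det_tm⟩

theorem T_U (a b c : ZMod 7) : T * U a b c = U (2 * a) (2 * b) (4 * c) * T := Subtype.ext (tm_um a b c)

theorem U_notMem : U 0 0 (-1) ∉ center (SpecialLinearGroup (Fin 3) (ZMod 7)) := by
  rw [Matrix.SpecialLinearGroup.mem_center_iff]
  rintro ⟨r, -, hr⟩
  have h2 := congrFun (congrFun hr 0) 2
  have h3 : (U 0 0 (-1) : Matrix (Fin 3) (Fin 3) (ZMod 7)) 0 2 = -1 := rfl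
  rw [h3, Matrix.scalar_apply, Matrix.diagonal_apply_ne _ (by decide)] at h2
  exact absurd h2 (by decide)

theorem moved_seven : Moved 7 Spor.ON := by
  have := finite_ON
  have hp : Fact (Nat.Prime 7) := ⟨by norm_num⟩
  obtain ⟨N, -, -, ⟨e⟩⟩ := S1693.result
  let q : SpecialLinearGroup (Fin 3) (ZMod 7) →* Matrix.ProjectiveSpecialLinearGroup (Fin 3) (ZMod 7) :=
    QuotientGroup.mk' _
  let g : SpecialLinearGroup (Fin 3) (ZMod 7) →* Spor.ON :=
    (Subgroup.subtype _).comp (N.subtype.comp (e.symm.toMonoidHom.comp q))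
  have hg : ∀ x, g x = 1 → x ∈ center (SpecialLinearGroup (Fin 3) (ZMod 7)) := by
    intro x hx
    have h1 : e.symm (q x) = 1 := Subtype.ext (Subtype.ext hx)
    have h2 : q x = 1 := by
      rw [← map_one e.symm] at h1
      exact e.symm.injective h1
    exact (QuotientGroup.eq_one_iff _).1 h2
  have hh : Cfsg.Agent.H792.SpCube.Heis 7 (g (U 1 0 0)) (g (U 0 1 0)) (g (U 0 0 (-1))) := by
    constructor
    · rw [← map_pow, U_seven, map_one]
    · rw [← map_pow, U_seven, map_one]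
    · rw [← map_pow, U_seven, map_one]
    · rw [← map_mul, ← map_mul, U_mul, U_mul]; congr 2 <;> ring
    · rw [← map_mul, ← map_mul, U_mul, U_mul]; congr 2 <;> ring
    · rw [← map_mul, ← map_mul, ← map_mul, U_mul, U_mul, U_mul]; congr 2 <;> ring
    · exact fun h => U_notMem (hg _ h)
  have hT : ∀ a b c : ZMod 7, g T * g (U a b c) * (g T)⁻¹ = g (U (2 * a) (2 * b) (4 * c)) := by
    intro a b c
    rw [mul_inv_eq_iff_eq_mul, ← map_mul, ← map_mul, T_U]
  refine moved_of_heis' (p := 7) (by norm_num) (by rw [card_ON]; norm_num) hh (c := g T) (a := 2) (u := 0) (v := 0)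
    (by norm_num) (by norm_num) ?_ ?_
  · rw [hT, zpow_zero, mul_one, ← map_pow, U_pow]
    congr 2 <;> simp
  · rw [hT, zpow_zero, mul_one, ← map_pow, U_pow]
    congr 2 <;> simp

/-- **S4114, the row `O'N`.** -/
theorem row_ON {G : Type u} [Group G] [Finite G] (h : Cfsg.Spor.IsoON G) : Cfsg.Agent.H520.Row G := by
  have D := BpSpor.Row.dat_on h
  obtain ⟨e⟩ := h
  refine row_of_dat D (l := [(2, 9), (3, 4), (5, 1), (7, 3), (11, 1), (19, 1), (31, 1)])
    (by decide +kernel) (by norm_num) fun x hx hx2 hx3 => ?_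
  simp only [List.mem_cons, List.not_mem_nil, or_false] at hx
  rcases hx with rfl | rfl | rfl | rfl | rfl | rfl | rfl
  · exact absurd rfl hx3
  · exact moved_three.congr e
  · exact absurd hx2 (by norm_num)
  · exact moved_seven.congr e
  all_goals exact absurd hx2 (by norm_num)

end Cfsg.Agent.H859.Ccp.ON
end

private theorem dce_e37253bb8938 : _root_.True := by
  try have : _root_.True := by simp only [_root_.Cfsg.Agent.H859.Ccp.ON.tm.eq_1]
  exact _root_.True.intro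
end

-- part: H763/Ccp/Ly_mg
section
set_option linter.all false
open scoped Cfsg.Agent.FastGrp

-- part: H763/Ccp/Ly
section
/-!
# S4114: the row `Ly` (helper763)

The elements of order 3 and 5 of `Ly` commute with involutions, the centralizer of an involution is `2.A₁₁`, and the elements
of order 3 and 5 of `A₁₁` are real.
-/

set_option autoImplicit false

namespace Cfsg.Agent.H763.Ccp.Ly

open Subgroup Cfsg Cfsg.Agent.H520 Cfsg.Agent.H497.Stein
open Cfsg.Agent.TypeM.Two (MT)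

universe u

section perm

open Equiv Equiv.Perm

/-- the elements of order 3 of the alternating group of degree 11 are real -/
theorem real_three {y : Perm (Fin 11)} (hy : orderOf y = 3) :
    ∃ a ∈ alternatingGroup (Fin 11), a * y * a⁻¹ = y⁻¹ := by
  have h1 : IsConj y y⁻¹ := by rw [isConj_iff_cycleType_eq, cycleType_inv]
  obtain ⟨c, hc⟩ := isConj_iff.1 h1
  by_cases hs : sign c = 1
  · exact ⟨c, mem_alternatingGroup.2 hs, hc⟩
  · -- two fixed points
    have hsup : y.support.card ≤ 9 := by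
      obtain ⟨n, hn⟩ := cycleType_prime_order (σ := y) (by rw [hy]; exact Nat.prime_three)
      rw [hy] at hn
      have h2 : y.cycleType.sum ≤ Fintype.card (Fin 11) := by
        rw [sum_cycleType]
        exact Finset.card_le_univ _
      rw [hn, Multiset.sum_replicate, Fintype.card_fin, smul_eq_mul] at h2
      rw [← sum_cycleType, hn, Multiset.sum_replicate, smul_eq_mul]
      omega
    have h2 : 2 ≤ (y.supportᶜ).card := by
      rw [Finset.card_compl, Fintype.card_fin]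
      omega
    obtain ⟨a, ha, b, hb, hab⟩ := Finset.one_lt_card.1 h2
    rw [Finset.mem_compl, mem_support, not_not] at ha hb
    have hcomm : swap a b * y = y * swap a b := by
      rw [swap_mul_eq_mul_swap]
      have h2 : y⁻¹ a = a := by rw [inv_eq_iff_eq, ha]
      have h3 : y⁻¹ b = b := by rw [inv_eq_iff_eq, hb]
      rw [h2, h3]
    refine ⟨c * swap a b, mem_alternatingGroup.2 ?_, ?_⟩
    · rw [Perm.sign_mul, sign_swap hab, (Int.units_eq_one_or (sign c)).resolve_left hs]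
      rfl
    · calc c * swap a b * y * (c * swap a b)⁻¹ = c * (swap a b * y) * (swap a b)⁻¹ * c⁻¹ := by group
        _ = c * (y * swap a b) * (swap a b)⁻¹ * c⁻¹ := by rw [hcomm]
        _ = c * y * c⁻¹ := by group
        _ = y⁻¹ := hc

/-- the elements of order 5 of an alternating group are real -/
theorem real_five {n : ℕ} {y : Perm (Fin n)} (hy : orderOf y = 5) :
    ∃ a ∈ alternatingGroup (Fin n), a * y * a⁻¹ = y⁻¹ := by
  have h5 : y ^ 5 = 1 := by rw [← hy, pow_orderOf_eq_one]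
  have h1 : IsConj y (y ^ 2) := by
    rw [isConj_iff_cycleType_eq]
    obtain ⟨m, hm⟩ := cycleType_prime_order (σ := y) (by rw [hy]; exact Nat.prime_five)
    have h2 : orderOf (y ^ 2) = 5 := by
      rw [orderOf_pow, hy]
      decide
    obtain ⟨m', hm'⟩ := cycleType_prime_order (σ := y ^ 2) (by rw [h2]; exact Nat.prime_five)
    rw [hy] at hm
    rw [h2] at hm'
    have hs : (y ^ 2).support = y.support := by
      apply le_antisymm (support_pow_le y 2)
      have h3 : (y ^ 2) ^ 3 = y := by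
        rw [← pow_mul, show 2 * 3 = 5 + 1 by norm_num, pow_succ, h5, one_mul]
      calc y.support = ((y ^ 2) ^ 3).support := by rw [h3]
        _ ≤ (y ^ 2).support := support_pow_le _ 3
    have h3 : y.cycleType.sum = (y ^ 2).cycleType.sum := by rw [sum_cycleType, sum_cycleType, hs]
    rw [hm, hm', Multiset.sum_replicate, Multiset.sum_replicate, smul_eq_mul, smul_eq_mul] at h3
    rw [hm, hm', Nat.eq_of_mul_eq_mul_right (by norm_num) h3]
  obtain ⟨c, hc⟩ := isConj_iff.1 h1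
  refine ⟨c * c, mem_alternatingGroup.2 ?_, ?_⟩
  · rw [Perm.sign_mul, ← sq, Int.units_sq]
  · have h2 : c * y ^ 2 * c⁻¹ = (y ^ 2) ^ 2 := by rw [← conj_pow, hc]
    calc c * c * y * (c * c)⁻¹ = c * (c * y * c⁻¹) * c⁻¹ := by group
      _ = (y ^ 2) ^ 2 := by rw [hc, h2]
      _ = y⁻¹ := by
        rw [eq_inv_iff_mul_eq_one, ← pow_mul, ← pow_succ, h5]

end perm

/-- real elements of the double cover -/
theorem real_cover {n : ℕ} {C : Type*} [Group C] (K : Cfsg.Agent.SporRec.TwoAn.Cover (Fin n) C) {y : C} {r : ℕ}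
    (hr : r.Prime) (hr2 : r ≠ 2) (hy : orderOf y = r) (hz : ∀ g : C, g * K.z = K.z * g)
    (hreal : ∀ x : Equiv.Perm (Fin n), orderOf x = r → ∃ a ∈ alternatingGroup (Fin n), a * x * a⁻¹ = x⁻¹) :
    IsConj y y⁻¹ := by
  have hyr : y ^ r = 1 := orderOf_dvd_iff_pow_eq_one.1 hy.dvd
  have hzz : K.z * K.z = 1 := K.z_mul_z
  have hrf : Fact r.Prime := ⟨hr⟩
  have hzr : K.z ^ r = K.z := by
    obtain ⟨k, hk⟩ := hr.odd_of_ne_two hr2
    rw [hk, pow_succ, pow_mul, pow_two, hzz, one_pow, one_mul]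
  have hyb : orderOf (K.π y) = r := by
    refine orderOf_eq_prime (by rw [← map_pow, hyr, map_one]) fun h => ?_
    rcases (K.ker y).1 h with h1 | h1
    · rw [h1, orderOf_one] at hy
      exact hr.one_lt.ne hy
    · rw [h1, hzr] at hyr
      exact K.z_ne hyr
  obtain ⟨a, ha, hay⟩ := hreal _ hyb
  rw [← K.range_eq] at ha
  obtain ⟨g, rfl⟩ := ha
  have h1 : K.π (y * (g * y * g⁻¹)) = 1 := by
    rw [map_mul, map_mul, map_mul, map_inv, hay, mul_inv_cancel]
  rcases (K.ker _).1 h1 with h2 | h2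
  · exact isConj_iff.2 ⟨g, by rw [eq_comm, inv_eq_iff_mul_eq_one, h2]⟩
  · exfalso
    have h3 : g * y * g⁻¹ = y⁻¹ * K.z := by rw [← h2, inv_mul_cancel_left]
    have h4 : (g * y * g⁻¹) ^ r = 1 := by rw [conj_pow, hyr, mul_one, mul_inv_cancel]
    rw [h3, (show Commute y⁻¹ K.z from hz _).mul_pow, inv_pow, hyr, inv_one, one_mul, hzr] at h4
    exact K.z_ne h4

/-- elements commuting with an involution in a group with involution centralizer `2.A_n` -/
theorem real_of_mt {n : ℕ} {M : Type*} [Group M] (L : MT n M) {r : ℕ} (hr : r.Prime) (hr2 : r ≠ 2)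
    (hreal : ∀ x : Equiv.Perm (Fin n), orderOf x = r → ∃ a ∈ alternatingGroup (Fin n), a * x * a⁻¹ = x⁻¹) {y s : M}
    (hy : orderOf y = r) (hs : orderOf s = 2) (hsy : s * y = y * s) : IsConj y y⁻¹ := by
  have hss : s * s = 1 := by rw [← pow_two]; exact orderOf_dvd_iff_pow_eq_one.1 hs.dvd
  have hs1 : s ≠ 1 := by
    rintro rfl
    rw [orderOf_one] at hs
    omega
  obtain ⟨g, hg⟩ := L.one s hss hs1
  have hc : g⁻¹ * y * g ∈ centralizer ({L.t} : Set M) := by
    rw [mem_centralizer_singleton_iff]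
    calc g⁻¹ * y * g * L.t = g⁻¹ * (y * (g * L.t * g⁻¹)) * g := by group
      _ = g⁻¹ * ((g * L.t * g⁻¹) * y) * g := by rw [hg, hsy]
      _ = L.t * (g⁻¹ * y * g) := by group
  have hzc : ∀ k : ↥(centralizer ({L.t} : Set M)), k * L.K.z = L.K.z * k := by
    intro k
    apply Subtype.ext
    show (k : M) * (L.K.z : M) = L.K.z * k
    rw [L.hz]
    exact mem_centralizer_singleton_iff.1 k.2
  have ho : orderOf (⟨g⁻¹ * y * g, hc⟩ : ↥(centralizer ({L.t} : Set M))) = r := by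
    rw [orderOf_mk, ← hy]
    have h1 : g⁻¹ * y * g = MulAut.conj g⁻¹ y := by rw [MulAut.conj_apply, inv_inv]
    rw [h1, MulEquiv.orderOf_eq]
  obtain ⟨k, hk⟩ := isConj_iff.1 (real_cover L.K hr hr2 ho hzc hreal)
  have hk' : (k : M) * (g⁻¹ * y * g) * (k : M)⁻¹ = (g⁻¹ * y * g)⁻¹ := congrArg Subtype.val hk
  refine isConj_iff.2 ⟨g * k * g⁻¹, ?_⟩
  calc g * (k : M) * g⁻¹ * y * (g * k * g⁻¹)⁻¹ = g * ((k : M) * (g⁻¹ * y * g) * (k : M)⁻¹) * g⁻¹ := by group
    _ = y⁻¹ := by rw [hk']; group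

/-- every element of order 3 of a perfect central extension of `McL` by a group of order 3 commutes with an involution -/
theorem exists_inv_cover {H : Type*} [Group H] [Finite H] (hz : Nat.card ↥(center H) = 3)
    (hq : Cfsg.Spor.IsoMcL (H ⧸ center H)) {y : H} (hy : orderOf y = 3) : ∃ s : H, orderOf s = 2 ∧ s * y = y * s := by
  have hf2 : Fact (Nat.Prime 2) := ⟨Nat.prime_two⟩
  have hf3 : Fact (Nat.Prime 3) := ⟨Nat.prime_three⟩
  -- lifts of involutions
  have hlift : ∀ t : H ⧸ center H, orderOf t = 2 → ∃ s : H, orderOf s = 2 ∧ (QuotientGroup.mk s : H ⧸ center H) = t := by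
    intro t ht
    obtain ⟨u, rfl⟩ := QuotientGroup.mk_surjective t
    have hu : u ^ 2 ∈ center H := by
      rw [← QuotientGroup.eq_one_iff, QuotientGroup.mk_pow, ← ht, pow_orderOf_eq_one]
    have hu3 : (u ^ 2) ^ 3 = 1 := by
      have h1 : (⟨u ^ 2, hu⟩ : center H) ^ 3 = 1 := by
        rw [← hz]
        exact pow_card_eq_one'
      exact congrArg Subtype.val h1
    refine ⟨u ^ 3, ?_, ?_⟩
    · refine orderOf_eq_prime (by rw [← pow_mul, mul_comm, pow_mul, hu3]) fun h => ?_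
      have h1 : (QuotientGroup.mk u : H ⧸ center H) ^ 3 = 1 := by rw [← QuotientGroup.mk_pow, h, QuotientGroup.mk_one]
      have h2 := orderOf_dvd_of_pow_eq_one h1
      rw [ht] at h2
      omega
    · rw [QuotientGroup.mk_pow, pow_succ]
      have h1 : (QuotientGroup.mk u : H ⧸ center H) ^ 2 = 1 := by rw [← ht, pow_orderOf_eq_one]
      rw [h1, one_mul]
  have hy3 : y ^ 3 = 1 := by rw [← hy, pow_orderOf_eq_one]
  by_cases h1 : (QuotientGroup.mk y : H ⧸ center H) = 1
  · -- central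
    obtain ⟨-, -, hcard, -⟩ := Cfsg.Agent.TypeM.FactsMcL.facts hq
    have h2 : 2 ∣ Nat.card (H ⧸ center H) := by
      rw [hcard]
      norm_num
    obtain ⟨t, ht⟩ := exists_prime_orderOf_dvd_card' 2 h2
    obtain ⟨s, hs, -⟩ := hlift t ht
    exact ⟨s, hs, mem_center_iff.1 ((QuotientGroup.eq_one_iff y).1 h1) s⟩
  · have h2 : orderOf (QuotientGroup.mk y : H ⧸ center H) = 3 :=
      orderOf_eq_prime (by rw [← QuotientGroup.mk_pow, hy3, QuotientGroup.mk_one]) h1
    obtain ⟨t, ht, htc⟩ := Cfsg.Agent.McLType.ThreeElts.exists_commuting_involution_of_iso hq _ h2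
    obtain ⟨s, hs, rfl⟩ := hlift t ht
    have hss : s * s = 1 := by rw [← pow_two, ← hs, pow_orderOf_eq_one]
    refine ⟨s, hs, ?_⟩
    -- the commutator is central and inverted by `s`
    have hc : s * y * s⁻¹ * y⁻¹ ∈ center H := by
      rw [← QuotientGroup.eq_one_iff]
      change (QuotientGroup.mk s : H ⧸ center H) * QuotientGroup.mk y * (QuotientGroup.mk s)⁻¹ *
        (QuotientGroup.mk y)⁻¹ = 1
      rw [htc]
      group
    set z := s * y * s⁻¹ * y⁻¹ with hzdef
    have h4 : s * y * s⁻¹ = z * y := by rw [hzdef]; group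
    have h5 : z * z = 1 := by
      have h6 : s * (s * y * s⁻¹) * s⁻¹ = y := by
        calc s * (s * y * s⁻¹) * s⁻¹ = (s * s) * y * (s * s)⁻¹ := by group
          _ = y := by rw [hss]; group
      rw [h4] at h6
      have h7 : s * (z * y) * s⁻¹ = z * (s * y * s⁻¹) := by
        have h8 := mem_center_iff.1 hc s
        calc s * (z * y) * s⁻¹ = (s * z) * y * s⁻¹ := by group
          _ = (z * s) * y * s⁻¹ := by rw [h8]
          _ = z * (s * y * s⁻¹) := by group
      rw [h7, h4, ← mul_assoc] at h6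
      exact mul_eq_right.1 h6
    have h6 : z ^ 3 = 1 := by
      have h7 : (⟨z, hc⟩ : center H) ^ 3 = 1 := by
        rw [← hz]
        exact pow_card_eq_one'
      exact congrArg Subtype.val h7
    have h7 : z = 1 := by
      have h8 : z ^ 3 = z := by rw [pow_succ, pow_two, h5, one_mul]
      rw [h8] at h6
      exact h6
    rw [h7, one_mul] at h4
    exact mul_inv_eq_iff_eq_mul.1 h4

/-- the elements of order 3 of `Ly` commute with involutions -/
theorem exists_inv_three {y : Cfsg.Spor.Ly} (hy : orderOf y = 3) : ∃ s : Cfsg.Spor.Ly, orderOf s = 2 ∧ s * y = y * s := by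
  have hfin : Finite Cfsg.Spor.Ly := Cfsg.Agent.Ly.Setup.finite_ly
  have hf3 : Fact (Nat.Prime 3) := ⟨Nat.prime_three⟩
  obtain ⟨x₀, T⟩ := CpAutLy.Base.exists_three
  set C := centralizer ({x₀} : Set Cfsg.Spor.Ly) with hC
  obtain ⟨-, -, hcard, -⟩ := Cfsg.Agent.TypeM.FactsMcL.facts T.quot
  have hcC : Nat.card ↥C = 3 ^ 7 * 1232000 := by
    rw [Subgroup.card_eq_card_quotient_mul_card_subgroup (center ↥C), hcard, T.zcard]
    norm_num
  -- a Sylow 3-subgroup of `Ly` in `C`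
  obtain ⟨P⟩ : Nonempty (Sylow 3 ↥C) := inferInstance
  have hfac : ∀ {m n : ℕ}, ¬ 3 ∣ m → (3 ^ n * m).factorization 3 = n := by
    intro m n hm
    have hm0 : m ≠ 0 := by
      rintro rfl
      exact hm (dvd_zero 3)
    rw [Nat.factorization_mul (pow_ne_zero n (by norm_num)) hm0, Finsupp.add_apply,
      Nat.Prime.factorization_pow Nat.prime_three, Finsupp.single_eq_same, Nat.factorization_eq_zero_of_not_dvd hm, add_zero]
  have hPc : Nat.card ↥((P : Subgroup ↥C).map C.subtype) = 3 ^ (Nat.card Cfsg.Spor.Ly).factorization 3 := by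
    rw [card_map_of_injective C.subtype_injective, P.card_eq_multiplicity, hcC, Cfsg.Agent.S1702.result.2,
      show 51765179004000000 = 3 ^ 7 * 23669492000000 by norm_num, hfac (by norm_num), hfac (by norm_num)]
  let Q : Sylow 3 Cfsg.Spor.Ly := Sylow.ofCard ((P : Subgroup ↥C).map C.subtype) hPc
  have h1 : IsPGroup 3 (zpowers y) := IsPGroup.of_card (n := 1) (by rw [Nat.card_zpowers, hy, pow_one])
  obtain ⟨R, hR⟩ := h1.exists_le_sylow
  obtain ⟨g, hg⟩ := MulAction.exists_smul_eq Cfsg.Spor.Ly R Q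
  have h2 : g * y * g⁻¹ ∈ (Q : Subgroup Cfsg.Spor.Ly) := by
    rw [← hg]
    exact ⟨y, hR (mem_zpowers y), rfl⟩
  have h3 : g * y * g⁻¹ ∈ C := by
    obtain ⟨x, -, hx⟩ := h2
    rw [← hx]
    exact x.2
  have h4 : orderOf (⟨g * y * g⁻¹, h3⟩ : ↥C) = 3 := by
    rw [orderOf_mk, ← hy]
    exact MulEquiv.orderOf_eq (MulAut.conj g) y
  obtain ⟨s, hs, hsy⟩ := exists_inv_cover T.zcard T.quot h4
  have hsy' : (s : Cfsg.Spor.Ly) * (g * y * g⁻¹) = g * y * g⁻¹ * s := congrArg Subtype.val hsy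
  refine ⟨g⁻¹ * s * g, ?_, ?_⟩
  · have h5 : g⁻¹ * (s : Cfsg.Spor.Ly) * g = MulAut.conj g⁻¹ s := by rw [MulAut.conj_apply, inv_inv]
    rw [h5, MulEquiv.orderOf_eq, orderOf_coe, hs]
  · calc g⁻¹ * (s : Cfsg.Spor.Ly) * g * y = g⁻¹ * (s * (g * y * g⁻¹)) * g := by group
      _ = g⁻¹ * (g * y * g⁻¹ * s) * g := by rw [hsy']
      _ = y * (g⁻¹ * s * g) := by group

theorem moved_three : Moved 3 Cfsg.Spor.Ly := by
  have hfin : Finite Cfsg.Spor.Ly := Cfsg.Agent.Ly.Setup.finite_ly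
  obtain ⟨L⟩ := Cfsg.Agent.TypeM.FactsLy.exists_mt_ly
  refine moved_of_real Nat.prime_three (by norm_num) fun y hy => ?_
  obtain ⟨s, hs, hsy⟩ := exists_inv_three hy
  exact real_of_mt L Nat.prime_three (by norm_num) (fun _ h => real_three h) hy hs hsy

theorem moved_five : Moved 5 Cfsg.Spor.Ly := by
  have hfin : Finite Cfsg.Spor.Ly := Cfsg.Agent.Ly.Setup.finite_ly
  obtain ⟨L⟩ := Cfsg.Agent.TypeM.FactsLy.exists_mt_ly
  refine moved_of_real Nat.prime_five (by norm_num) fun y hy => ?_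
  obtain ⟨s, hs, hsy⟩ := Cfsg.Agent.R10.FiveComm.exists_involution (k := y) (by rw [← hy, pow_orderOf_eq_one])
  exact real_of_mt L Nat.prime_five (by norm_num) (fun _ h => real_five h) hy hs hsy

/-- **S4114, the row `Ly`.** -/
theorem row_Ly {G : Type u} [Group G] [Finite G] (h : Cfsg.Spor.IsoLy G) : Cfsg.Agent.H520.Row G := by
  have D := BpSpor.Row.dat_ly h
  obtain ⟨e⟩ := h
  refine row_of_dat D (l := [(2, 8), (3, 7), (5, 6), (7, 1), (11, 1), (31, 1), (37, 1), (67, 1)])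
    (by decide +kernel) (by norm_num) fun x hx hx2 hx3 => ?_
  simp only [List.mem_cons, List.not_mem_nil, or_false] at hx
  rcases hx with rfl | rfl | rfl | rfl | rfl | rfl | rfl | rfl
  · exact absurd rfl hx3
  · exact moved_three.congr e
  · exact moved_five.congr e
  all_goals exact absurd hx2 (by norm_num)

end Cfsg.Agent.H763.Ccp.Ly
end

-- part: H230/Ccp/Tool
section
/-!
# S4114: tools for the sporadic rows (helper230)

* `Cfg.mem_rad` : for `t, y ∈ ⟨α⟩` (inner), `t ≠ 1`, the element `y` lies in the solvable radical of `C_G(t)`;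
* `not_both` : if `C_G(t)` has no elements of order `p` in its radical for the elements `t` of order `q`, then
  not both of `p`, `q` divide `|α|`;
* `row_of_two` : the row of a group with `π(α) ⊆ {2, p}`.
-/

set_option autoImplicit false

namespace Cfsg.Agent.H230.Ccp

open Subgroup Cfsg Cfsg.Agent.H520 Cfsg.Agent.H497.Stein
open Cfsg.Agent.H839.Rad (RadFree)
open Cfsg.Agent.H459.Rad Cfsg.Agent.SignalizersComponents.ComponentExists
open Cfsg.Agent.CpAut (AutInner)

universe u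

variable {G : Type u} [Group G]

/-- `m⁻¹ αᵏ(m) ∈ [M, α]` -/
theorem pow_mem_cM {α : MulAut G} {M : Subgroup G} (hM : ∀ m ∈ M, α m ∈ M) (k : ℕ) :
    ∀ m ∈ M, (α ^ k : MulAut G) m ∈ M ∧ m⁻¹ * (α ^ k : MulAut G) m ∈ cM α M := by
  induction k with
  | zero => intro m hm; simpa using hm
  | succ k ih =>
    intro m hm
    obtain ⟨h1, h2⟩ := ih m hm
    have h3 : (α ^ (k + 1) : MulAut G) m = α ((α ^ k : MulAut G) m) := by rw [pow_succ', MulAut.mul_apply]
    rw [h3]
    refine ⟨hM _ h1, ?_⟩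
    have h4 := mem_cM α h1
    have h5 : m⁻¹ * α ((α ^ k : MulAut G) m) =
        (m⁻¹ * (α ^ k : MulAut G) m) * (((α ^ k : MulAut G) m)⁻¹ * α ((α ^ k : MulAut G) m)) := by group
    rw [h5]
    exact mul_mem h2 h4

/-- an element of `⟨α⟩` (inner) lies in the solvable radical of every proper invariant subgroup containing it -/
theorem Cfg.mem_rad_of_inv [Finite G] {α : MulAut G} (h : Cfg α) {M : Subgroup G} (hM : M ≠ ⊤)
    (hMi : ∀ m ∈ M, α m ∈ M) {y : G} (hy : MulAut.conj y ∈ zpowers α) (hyM : y ∈ M) :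
    (⟨y, hyM⟩ : ↥M) ∈ solvableRadical ↥M := by
  have h1 : Group.IsSolvable (cG (resA α M hMi)) := (solvable_cM_iff α M hMi).1 (h.min M hM hMi)
  have h2 : cG (resA α M hMi) ≤ solvableRadical ↥M := le_rad (cG_normal _) h1
  refine mem_rad_of_commutator fun g => h2 ?_
  obtain ⟨k, hk⟩ := (isOfFinOrder_of_finite α).mem_powers_iff_mem_zpowers.2 hy
  have hk' : α ^ k = MulAut.conj y := hk
  obtain ⟨-, h3⟩ := pow_mem_cM (α := α) hMi k g.1 g.2
  rw [hk', ← map_cG_resA α M hMi] at h3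
  obtain ⟨c, hc, hc2⟩ := h3
  have h4 : c = g⁻¹ * ((⟨y, hyM⟩ : ↥M) * g * (⟨y, hyM⟩ : ↥M)⁻¹) := Subtype.ext hc2
  rw [← h4]
  exact hc

theorem fixA_conj [Finite G] (t : G) : fixA (MulAut.conj t) = centralizer ({t} : Set G) := by
  ext g
  rw [mem_fixA, mem_centralizer_singleton_iff, MulAut.conj_apply, mul_inv_eq_iff_eq_mul]
  exact eq_comm

/-- for `t, y ∈ ⟨α⟩`, `y` lies in the solvable radical of `C_G(t)` -/
theorem Cfg.mem_rad [Finite G] {α : MulAut G} (h : Cfg α) {t : G} (ht : MulAut.conj t ∈ zpowers α) (ht1 : t ≠ 1)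
    {y : G} (hy : MulAut.conj y ∈ zpowers α) :
    ∃ hy' : y ∈ centralizer ({t} : Set G), (⟨y, hy'⟩ : ↥(centralizer ({t} : Set G))) ∈ solvableRadical _ := by
  have hinj : Function.Injective (MulAut.conj : G →* MulAut G) := fun a b hab => conj_inj h.center_bot hab
  have h1 : MulAut.conj t ≠ 1 := fun h2 => ht1 (hinj (by rw [h2, map_one]))
  have h2 : y ∈ centralizer ({t} : Set G) := by
    rw [mem_centralizer_singleton_iff]
    apply hinj
    rw [map_mul, map_mul]
    exact (Cfg.comm_zpowers hy ht).eq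
  refine ⟨h2, ?_⟩
  refine Cfg.mem_rad_of_inv h ?_ ?_ hy h2
  · rw [← fixA_conj]
    exact Cfg.fixA_ne_top h1
  · rw [← fixA_conj]
    exact Cfg.fixA_inv (Cfg.comm_zpowers ht (mem_zpowers α))

/-- an inner automorphism of prime order in `⟨α⟩` -/
theorem Cfg.exists_inn [Finite G] {α : MulAut G} (h : Cfg α) {p : ℕ} (hp : p.Prime) (hi : AutInner p G)
    (hd : p ∣ orderOf α) : ∃ y : G, orderOf y = p ∧ MulAut.conj y ∈ zpowers α := by
  obtain ⟨x, hx, hxo⟩ := exists_prime_order hp hd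
  obtain ⟨y, rfl⟩ := hi x hxo
  have hinj : Function.Injective (MulAut.conj : G →* MulAut G) := fun a b hab => conj_inj h.center_bot hab
  exact ⟨y, by rw [← hxo]; exact (orderOf_injective _ hinj y).symm, hx⟩

/-- not both of `p`, `q` divide `|α|` -/
theorem not_both [Finite G] {α : MulAut G} (h : Cfg α) {p q : ℕ} (hp : p.Prime) (hq : q.Prime) (hip : AutInner p G)
    (hiq : AutInner q G) (hR : ∀ t : G, orderOf t = q → RadFree p ↥(centralizer ({t} : Set G)))
    (hpd : p ∣ orderOf α) : ¬ q ∣ orderOf α := by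
  intro hqd
  obtain ⟨y, hyo, hy⟩ := Cfg.exists_inn h hp hip hpd
  obtain ⟨t, hto, ht⟩ := Cfg.exists_inn h hq hiq hqd
  obtain ⟨h1, h2⟩ := Cfg.mem_rad h ht (fun h3 => by
    rw [h3, orderOf_one] at hto
    exact hq.one_lt.ne hto) hy
  exact hR t hto ⟨y, h1⟩ (by rw [Subgroup.orderOf_mk, hyo]) h2

/-- **The row of a group** all of whose elements of odd prime order `≠ p` are moved, if `C_G(t)` has no elements of
order `p` in its radical for the involutions `t`. -/
theorem row_of_two [Finite G] {p : ℕ} (hp : p.Prime) (h2 : 2 ∣ Nat.card G) (hpG : p ∣ Nat.card G)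
    (hi2 : AutInner 2 G) (hi : Cfsg.Agent.BpSpor.Inn.OddInn G) (hp2 : p ≠ 2)
    (hm : ∀ q : ℕ, q.Prime → q ≠ 2 → q ≠ p → q ∣ Nat.card G → Moved q G)
    (hR : ∀ t : G, orderOf t = 2 → RadFree p ↥(centralizer ({t} : Set G))) : Row G := by
  intro α h
  have key : ∀ q : ℕ, q.Prime → q ≠ 2 → q ≠ p → ¬ q ∣ orderOf α := by
    intro q hq hq2 hqp
    by_cases hqG : q ∣ Nat.card G
    · exact not_dvd_of_moved h hq (hi q hq hq2) (hm q hq hq2 hqp hqG)
    · refine not_dvd_of_moved h hq (hi q hq hq2) (fun y hy => absurd ?_ hqG)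
      rw [← hy]
      exact orderOf_dvd_natCard y
  obtain ⟨q, hq, hqp, hd⟩ := h.exists_prime_ne hp hpG
  obtain ⟨r, hr, hr2, hrd⟩ := h.exists_prime_ne Nat.prime_two h2
  have e1 : q = 2 := by
    by_contra hq2
    exact key q hq hq2 hqp hd
  have e2 : r = p := by
    by_contra hrp
    exact key r hr hr2 hrp hrd
  rw [e1] at hd
  rw [e2] at hrd
  exact not_both h hp Nat.prime_two (hi p hp hp2) hi2 hR hrd hd

end Cfsg.Agent.H230.Ccp
end

-- part: H230/Ccp/Co3
section
/-!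
# S4114: the row `Co3` (helper230)

`5`: `PSU₃(5) ≤ Co3` has index prime to 5; `7`, `11`, `23` by Burnside; so `|α|` has the prime divisors `2` and `3`, and
the centralizers of the involutions `2.Sp₆(2)` and `2 × M₁₂` exclude this.
-/

set_option autoImplicit false

namespace Cfsg.Agent.H230.Ccp.Co3

open Subgroup Cfsg Cfsg.Agent.H520 Cfsg.Agent.H497.Stein
open Cfsg.Agent.H792.SpU35 (card_Co3 exists_tri_mcl)
open Cfsg.Agent.SporRec.Co3.Chain (G3)
open Cfsg.Agent.SporRec.Co3.Ident (Z)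
open Cfsg.Agent.CpAutCo3.MTw (ww cls)
open Cfsg.Agent.H839.Rad (RadFree)
open Cfsg.Agent.H345.IRowCo (radFree_Z radFree_ww equiv_cent finG3)

universe u

theorem moved_five : Moved 5 Spor.Co3 := by
  have : Finite Spor.Co3 := Nat.finite_of_card_ne_zero (by rw [card_Co3]; norm_num)
  obtain ⟨x, T⟩ := exists_tri_mcl
  exact Tri.moved T Spor.Co3 (m := 3966133248) (by rw [card_Co3]; norm_num) (by norm_num)
    fun g _ h1 _ => ⟨g.2, h1⟩

theorem radFree (t : G3) (ht : orderOf t = 2) : RadFree 3 ↥(centralizer ({t} : Set G3)) := by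
  have := finG3
  have ht2 : t * t = 1 := by rw [← pow_two, ← ht, pow_orderOf_eq_one]
  have ht1 : t ≠ 1 := fun h => by rw [h, orderOf_one] at ht; norm_num at ht
  rcases cls ht2 ht1 with ⟨g, rfl⟩ | ⟨g, rfl⟩
  · obtain ⟨e⟩ := equiv_cent g Z
    exact radFree_Z.congr Nat.prime_three e.symm
  · obtain ⟨e⟩ := equiv_cent g ww
    exact radFree_ww.congr Nat.prime_three e.symm

theorem row_G3 : Row G3 := by
  have := finG3
  have hI : Cfsg.Spor.IsoCo3 G3 := ⟨Cfsg.Agent.SporRec.Co3.Model.equivCo3⟩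
  have D := BpSpor.Row.dat_co3 hI
  have hna := not_comm_of_card D.simple (by rw [D.card]; norm_num)
  have := D.simple
  refine row_of_two (p := 3) Nat.prime_three (by rw [D.card]; norm_num) (by rw [D.card]; norm_num)
    (CpAutCoThreeFive.autInner 2) D.inn (by norm_num) (fun q hq hq2 hq3 hqd => ?_) radFree
  by_cases h : q ^ 2 ∣ 495766656000
  · obtain ⟨k, hk, h2k⟩ := OrdDiv.exists_pair (l := [(2, 10), (3, 7), (5, 3), (7, 1), (11, 1), (23, 1)])
      (by decide +kernel) hq (by norm_num : 1 ≤ 2) h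
    simp only [List.mem_cons, List.not_mem_nil, or_false, Prod.mk.injEq] at hk
    rcases hk with ⟨rfl, rfl⟩ | ⟨rfl, rfl⟩ | ⟨rfl, rfl⟩ | ⟨rfl, rfl⟩ | ⟨rfl, rfl⟩ | ⟨rfl, rfl⟩
    · exact absurd rfl hq2
    · exact absurd rfl hq3
    · exact moved_five.congr Cfsg.Agent.SporRec.Co3.Model.equivCo3
    all_goals exact absurd h2k (by norm_num)
  · exact moved_of_not_sq hna hq (by rw [D.card]; exact h)

/-- **S4114, the row `Co3`.** -/
theorem row_Co3 {G : Type u} [Group G] [Finite G] (h : Cfsg.Spor.IsoCo3 G) : Cfsg.Agent.H520.Row G := by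
  obtain ⟨e⟩ := h
  exact Row.congr (e.trans Cfsg.Agent.SporRec.Co3.Model.equivCo3.symm) row_G3

end Cfsg.Agent.H230.Ccp.Co3
end

-- part: H285/Ccp/Fi23
section
/-!
# S4114: the row `Fi23` (helper285)
-/

set_option autoImplicit false

namespace Cfsg.Agent.H285.Ccp.FiTh

open Subgroup Cfsg Cfsg.Spor Cfsg.Agent.H520 Cfsg.Agent.H497.Stein

universe u

/-- **S4114**: one class of elements of order 5 -/
theorem moved_five [Finite Fi23] : Moved 5 Fi23 := by
  refine moved_of_one Nat.prime_five (by norm_num) fun x y hx hy => ?_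
  have h : ∀ z : Fi23, orderOf z = 5 →
      ∃ g : Fi23, g * z * g⁻¹ = Cfsg.Agent.LThreeFi23.elw Cfsg.Agent.LThreeFi23.y5 := by
    intro z hz
    refine Cfsg.Agent.H838.Fi23.Syl.conj_y5 (by rw [← hz, pow_orderOf_eq_one]) ?_
    rintro rfl
    rw [orderOf_one] at hz
    norm_num at hz
  obtain ⟨g, hg⟩ := h x hx
  obtain ⟨k, hk⟩ := h y hy
  exact (isConj_iff.2 ⟨g, hg⟩).trans (isConj_iff.2 ⟨k, hk⟩).symm

/-- **the row `Fi23` of S4114** -/
theorem row_Fi23 {G : Type u} [Group G] [Finite G] (h : Spor.IsoFi23 G) : Cfsg.Agent.H520.Row G := by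
  have D := BpSpor.Row.dat_fi23 h
  obtain ⟨e⟩ := h
  have hf : Finite Fi23 := Finite.of_equiv G e.toEquiv
  refine row_of_dat D (l := [(2, 18), (3, 13), (5, 2), (7, 1), (11, 1), (13, 1), (17, 1), (23, 1)])
    (by decide +kernel) (by norm_num) ?_
  intro x hx h2 hx2
  simp only [List.mem_cons, List.not_mem_nil, or_false] at hx
  rcases hx with rfl | rfl | rfl | rfl | rfl | rfl | rfl | rfl
  · exact absurd rfl hx2
  · exact Moved.congr e Cfsg.Agent.H999.Ccp.FiTh.moved_three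
  · exact Moved.congr e moved_five
  all_goals exact absurd h2 (by norm_num)

end Cfsg.Agent.H285.Ccp.FiTh
end

-- part: H874/SteinAQ
section
/-!
# Quasisimple subgroups in minimal configurations (helper874, for S4114)

`aq_fix` : `π : L → G` with central kernel, `αt` a lift of `α`, `π(L) ≠ G`, `θ : L → R`, `j : Q → L` with `Q` quasisimple and `θ j`
injective with normal image and abelian centralizer: then `θ(αt(j e)) = θ(j e)`.
-/

set_option autoImplicit false

namespace Cfsg.Agent.H874.Stein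

open Subgroup Cfsg Cfsg.Agent.H520
open scoped commutatorElement

/-- proper normal subgroups of quasisimple groups which are solvable are central -/
theorem le_center_of_solvable {Q : Type*} [Group Q] (hQ : IsQuasisimple Q) {N : Subgroup Q} (hN : N.Normal)
    (hs : Group.IsSolvable N) : N ≤ center Q := by
  have := hQ.2
  have hNm : (N.map (QuotientGroup.mk' (center Q))).Normal := hN.map _ (QuotientGroup.mk'_surjective _)
  rcases hNm.eq_bot_or_eq_top with h | h
  · intro x hx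
    have h1 : QuotientGroup.mk' (center Q) x ∈ N.map (QuotientGroup.mk' (center Q)) := mem_map_of_mem _ hx
    rw [h, mem_bot] at h1
    exact (QuotientGroup.eq_one_iff _).1 h1
  · exfalso
    apply SignalizersComponents.ComponentExists.not_isSolvable_of_isQuasisimple hQ
    have h1 : Group.IsSolvable (N.map (QuotientGroup.mk' (center Q))) :=
      Group.isSolvable_of_surjective (f := (QuotientGroup.mk' (center Q)).subgroupMap N)
        ((QuotientGroup.mk' (center Q)).subgroupMap_surjective N)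
    rw [h] at h1
    have h2 : Group.IsSolvable (Q ⧸ center Q) :=
      Group.isSolvable_of_surjective (f := (⊤ : Subgroup (Q ⧸ center Q)).subtype) (fun x => ⟨⟨x, trivial⟩, rfl⟩)
    have h3 : Group.IsSolvable (center Q) := Group.isSolvable_of_comm (fun a b => Subtype.ext ((mem_center_iff.1 b.2 a.1)))
    rw [Group.isSolvable_iff_subgroup_quotient (center Q)]
    exact ⟨h3, h2⟩

end Cfsg.Agent.H874.Stein
end

-- part: H999/Ccp/Fi24Core
section
/-!
# Configurations of `Fi24'` (helper999, for S4114)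

* `movedAt_of_comm` : an element of order 3 commuting with a transposition is real;
* `false_even`, `false_tri` : no automorphism `α` whose cyclic group contains the conjugation by an element `y` of order 3
  commuting with no transposition and an involution.
-/

set_option autoImplicit false

namespace Cfsg.Agent.H999.Ccp.FiTF

open Subgroup Cfsg Cfsg.Spor Cfsg.Agent.H520 Cfsg.Agent.H497.Stein Cfsg.Agent.H459.Rad
open Cfsg.Agent.KFacts.FiTF Cfsg.Agent.KFacts.FiTF.Defs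
open Cfsg.Agent.R08.FiTwentyFour (L finite_Fi24)
open Cfsg.Agent.CpAutFi24.OutInv Cfsg.Agent.CpAutFi24.Unit Cfsg.Agent.CpAutFi24.Row

/-- **an element of order 3 commuting with a transposition is conjugate to its inverse** -/
theorem movedAt_of_comm [Finite Spor.Fi24'] {x : Spor.Fi24'} (ho : orderOf x = 3) {d : Fi24} (hd : d ∈ L)
    (hdx : d * (x : Fi24) = (x : Fi24) * d) : MovedAt x := by
  obtain ⟨c, rfl⟩ := isConj_iff.1 (show IsConj (Cfsg.Agent.Fischer.Fi24Class.gen .l) d from hd)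
  have hn : (commutator Fi24).Normal := inferInstance
  let φ : Spor.Fi23 →* Spor.Fi24' := (((MulAut.conj c).toMonoidHom.comp
    Cfsg.Agent.R08.FiTwentyFour.facts.phi)).codRestrict (commutator Fi24) fun k =>
      hn.conj_mem _ (Cfsg.Agent.R08.FiTwentyFour.mem_commutator_iff.2
        (Cfsg.Agent.R08.FiTwentyFour.facts.sgn_phi k)) c
  have hφ : Function.Injective φ := by
    intro a b hab
    have h1 : c * Cfsg.Agent.R08.FiTwentyFour.facts.phi a * c⁻¹ = c * Cfsg.Agent.R08.FiTwentyFour.facts.phi b * c⁻¹ :=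
      congrArg Subtype.val hab
    exact Cfsg.Agent.R08.FiTwentyFour.facts.phi_injective (mul_left_cancel (mul_right_cancel h1))
  have hfin : Finite Spor.Fi23 := Finite.of_injective φ hφ
  have h1 : (c⁻¹ * (x : Fi24) * c) * Cfsg.Agent.Fischer.Fi24Class.gen .l =
      Cfsg.Agent.Fischer.Fi24Class.gen .l * (c⁻¹ * (x : Fi24) * c) := by
    calc (c⁻¹ * (x : Fi24) * c) * Cfsg.Agent.Fischer.Fi24Class.gen .l =
        c⁻¹ * ((x : Fi24) * (c * Cfsg.Agent.Fischer.Fi24Class.gen .l * c⁻¹)) * c := by group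
      _ = c⁻¹ * ((c * Cfsg.Agent.Fischer.Fi24Class.gen .l * c⁻¹) * (x : Fi24)) * c := by rw [hdx]
      _ = _ := by group
  have h2 : c⁻¹ * (x : Fi24) * c ∈ commutator Fi24 := by
    have := hn.conj_mem (x : Fi24) x.2 c⁻¹
    rwa [inv_inv] at this
  obtain ⟨k, hk⟩ := (Cfsg.Agent.R08.FiTwentyFour.facts.mem_range_iff _).2
    ⟨h1, Cfsg.Agent.R08.FiTwentyFour.mem_commutator_iff.1 h2⟩
  have h3 : φ k = x := by
    apply Subtype.ext
    show c * Cfsg.Agent.R08.FiTwentyFour.facts.phi k * c⁻¹ = (x : Fi24)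
    rw [hk]
    group
  rw [← h3] at ho ⊢
  rw [orderOf_injective φ hφ] at ho
  exact (FiTh.moved_three k ho).map φ hφ

/-- a radical element of order 3 of `C(z)` fixes the tetrads -/
theorem fixes_of_mem [Finite Spor.Fi24'] {a : Spor.Fi24'} (ha : a ^ 3 = 1)
    (haM : a ∈ Cfsg.Agent.H491.Rad3.FiTF.M) (hR : a ∈ radIn Cfsg.Agent.H491.Rad3.FiTF.M) :
    Cfsg.Agent.KFacts.FiTF.QuasiA.Fixes (a : Fi24) := by
  rcases Cfsg.Agent.PreUniq.FiTF.Z.dich Cfsg.Agent.H491.Rad3.FiTF.Q inf_le_right Cfsg.Agent.H491.Rad3.FiTF.R_le_Q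
    (fun e he n hn => Cfsg.Agent.H491.Rad3.FiTF.Q_conj he hn) with h | h
  · exact h _ ⟨⟨a, hR, rfl⟩, Cfsg.Agent.H491.Rad3.FiTF.mem_E ha haM⟩
  · exact absurd h Cfsg.Agent.H491.Rad3.FiTF.Q_ne

/-- an involution of `Fi24'` in `⟨α⟩` -/
theorem false_even [Finite Spor.Fi24'] {α : MulAut Spor.Fi24'} (h : Cfg α) {y s : Spor.Fi24'}
    (hy : MulAut.conj y ∈ zpowers α) (hy3 : y ^ 3 = 1) (hcon : ∀ d ∈ L, d * (y : Fi24) ≠ (y : Fi24) * d)
    (hs : α s = s) (hss : s * s = 1) (hs1 : s ≠ 1) (hsy : s * y = y * s) : False := by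
  have hy3' : (y : Fi24) ^ 3 = 1 := congrArg Subtype.val hy3
  obtain ⟨g, hg, hgs⟩ := Cfsg.Agent.LThreeFi24.EmptyTwo.invol_aux hy3' hcon s.2 (congrArg Subtype.val hss)
    (fun e => hs1 (Subtype.ext e)) (congrArg Subtype.val hsy)
  set g' : Spor.Fi24' := ⟨g, hg⟩ with hg'
  have hyM : y ∈ centralizer ({s} : Set Spor.Fi24') := mem_centralizer_singleton_iff.2 hsy.symm
  have hrad : y ∈ radIn (centralizer ({s} : Set Spor.Fi24')) :=
    ⟨_, H979.Ccp.mem_rad h (H979.Ccp.centralizer_ne_top h hs1) (H979.Ccp.centralizer_inv_of_fix hs) hy hyM, rfl⟩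
  -- conjugation by `g'`
  have hmap : (centralizer ({s} : Set Spor.Fi24')).map (MulAut.conj g').toMonoidHom = Cfsg.Agent.H491.Rad3.FiTF.M := by
    ext w
    rw [Cfsg.Agent.H491.Rad3.FiTF.mem_M]
    constructor
    · rintro ⟨v, hv, rfl⟩
      have hv' := congrArg Subtype.val (mem_centralizer_singleton_iff.1 hv)
      have hv'' : (v : Fi24) * (s : Fi24) = (s : Fi24) * (v : Fi24) := hv'
      show g * (v : Fi24) * g⁻¹ * z = z * (g * (v : Fi24) * g⁻¹)
      rw [← hgs]
      calc g * (v : Fi24) * g⁻¹ * (g * (s : Fi24) * g⁻¹) = g * ((v : Fi24) * s) * g⁻¹ := by group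
        _ = g * (s * (v : Fi24)) * g⁻¹ := by rw [hv'']
        _ = _ := by group
    · intro hw
      refine ⟨g'⁻¹ * w * g', mem_centralizer_singleton_iff.2 (Subtype.ext ?_), ?_⟩
      · show g⁻¹ * (w : Fi24) * g * (s : Fi24) = (s : Fi24) * (g⁻¹ * (w : Fi24) * g)
        rw [← hgs] at hw
        calc g⁻¹ * (w : Fi24) * g * (s : Fi24) = g⁻¹ * ((w : Fi24) * (g * s * g⁻¹)) * g := by group
          _ = g⁻¹ * ((g * s * g⁻¹) * (w : Fi24)) * g := by rw [hw]
          _ = _ := by group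
      · show g' * (g'⁻¹ * w * g') * g'⁻¹ = w
        group
  have hrad' : g' * y * g'⁻¹ ∈ radIn Cfsg.Agent.H491.Rad3.FiTF.M := by
    rw [← hmap, ← radIn_map]
    exact ⟨y, hrad, rfl⟩
  have ha3 : (g' * y * g'⁻¹) ^ 3 = 1 := by rw [conj_pow, hy3]; group
  have haM : g' * y * g'⁻¹ ∈ Cfsg.Agent.H491.Rad3.FiTF.M := radIn_le _ hrad'
  obtain ⟨e, he, h1⟩ := Cfsg.Agent.H491.Rad3.FiTF.fix_of_cube (congrArg Subtype.val ha3)
    (Cfsg.Agent.H491.Rad3.FiTF.mem_M.1 haM) (fixes_of_mem ha3 haM hrad')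
  have h1' : g * (y : Fi24) * g⁻¹ * e * (g * (y : Fi24) * g⁻¹)⁻¹ = e := h1
  refine hcon (g⁻¹ * e * g⁻¹⁻¹) (Cfsg.Agent.R08.FiTwentyFour.conj he g⁻¹) ?_
  have h2 : g * (y : Fi24) * g⁻¹ * e = e * (g * (y : Fi24) * g⁻¹) := mul_inv_eq_iff_eq_mul.1 h1'
  calc g⁻¹ * e * g⁻¹⁻¹ * (y : Fi24) = g⁻¹ * (e * (g * (y : Fi24) * g⁻¹)) * g := by group
    _ = g⁻¹ * (g * (y : Fi24) * g⁻¹ * e) * g := by rw [h2]
    _ = _ := by group

/-- the product of three transpositions in `⟨α⟩` -/
theorem false_tri [Finite Spor.Fi24'] {α : MulAut Spor.Fi24'} (h : Cfg α) {y : Spor.Fi24'}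
    (hy : MulAut.conj y ∈ zpowers α) (hy3 : y ^ 3 = 1) (hcon : ∀ d ∈ L, d * (y : Fi24) ≠ (y : Fi24) * d)
    {g₀ a b c : Fi24} (hα : ∀ k : Spor.Fi24', (α k : Fi24) = g₀ * (k : Fi24) * g₀⁻¹) (hT : Tri3 a b c)
    (hg₀ : Commute g₀ (a * b * c)) : False := by
  have htr := Cfsg.Agent.R08.TetFi24A.tr
  let M : Subgroup Spor.Fi24' := (centralizer ({a * b * c} : Set Fi24)).comap (commutator Fi24).subtype
  have hM : ∀ k : Spor.Fi24', k ∈ M ↔ Commute (k : Fi24) (a * b * c) := fun k => mem_centralizer_singleton_iff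
  let E : Subgroup Spor.Fi24' := (U a b c).comap (commutator Fi24).subtype
  have hE : ∀ k : Spor.Fi24', k ∈ E ↔ (k : Fi24) ∈ U a b c := fun k => Iff.rfl
  have hMt : M ≠ ⊤ := by
    intro h1
    have h2 : a * b * c = 1 := eq_one_of_comm fun x hx => by
      have h3 : (⟨x, hx⟩ : Spor.Fi24') ∈ M := by rw [h1]; trivial
      exact ((hM _).1 h3).eq.symm
    apply Cfsg.Agent.R08.FiTwentyFour.odd hT.hc
    have h4 : c = (a * b)⁻¹ := eq_inv_of_mul_eq_one_right h2
    rw [h4]
    exact inv_mem (Cfsg.Agent.R08.FiTwentyFour.even hT.ha hT.hb)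
  have hMi : ∀ m ∈ M, α m ∈ M := by
    intro m hm
    rw [hM] at hm ⊢
    rw [hα]
    exact (hg₀.mul_left hm).mul_left hg₀.inv_left
  have hEM : E ≤ M := by
    intro k hk
    obtain ⟨-, h1, h2, h3⟩ := mem_U.1 ((hE k).1 hk)
    exact (hM k).2 ((h1.mul_right h2).mul_right h3)
  have hEi : ∀ k ∈ E, α k ∈ E := by
    intro k hk
    obtain ⟨-, h1, h2, h3⟩ := mem_U.1 ((hE k).1 hk)
    have key : ∀ d : Fi24, d = a ∨ d = b ∨ d = c → Commute (α k : Fi24) d := by
      intro d hd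
      have h4 : Commute (k : Fi24) (g₀⁻¹ * d * g₀⁻¹⁻¹) := by
        rcases perm_of_comm hT hg₀.inv_left hd with h5 | h5 | h5
        · rw [h5]; exact h1
        · rw [h5]; exact h2
        · rw [h5]; exact h3
      rw [hα]
      have h5 : (k : Fi24) * (g₀⁻¹ * d * g₀⁻¹⁻¹) = (g₀⁻¹ * d * g₀⁻¹⁻¹) * (k : Fi24) := h4.eq
      show g₀ * (k : Fi24) * g₀⁻¹ * d = d * (g₀ * (k : Fi24) * g₀⁻¹)
      calc g₀ * (k : Fi24) * g₀⁻¹ * d = g₀ * ((k : Fi24) * (g₀⁻¹ * d * g₀⁻¹⁻¹)) * g₀⁻¹ := by group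
        _ = g₀ * ((g₀⁻¹ * d * g₀⁻¹⁻¹) * (k : Fi24)) * g₀⁻¹ := by rw [h5]
        _ = _ := by group
    exact (hE _).2 (mem_U.2 ⟨(α k).2, key a (Or.inl rfl), key b (Or.inr (Or.inl rfl)), key c (Or.inr (Or.inr rfl))⟩)
  let e : ↥E ≃* ↥(U a b c) :=
    { toFun := fun k => ⟨((k : Spor.Fi24') : Fi24), k.2⟩
      invFun := fun u => ⟨⟨(u : Fi24), (mem_U.1 u.2).1⟩, u.2⟩
      left_inv := fun _ => rfl
      right_inv := fun _ => rfl
      map_mul' := fun _ _ => rfl }
  have hq : IsQuasisimple ↥E :=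
    Cfsg.Agent.SignalizersComponents.QsBasic.isQuasisimple_of_mulEquiv e.symm (quasi hT)
  have hfix := h.centralizes hMt hMi hEM hEi hq.1.commutator_eq_top
    (fun N hN hs => Cfsg.Agent.H874.Stein.le_center_of_solvable hq hN hs)
  -- `y` commutes with `a b`
  have hab : (⟨a * b, Cfsg.Agent.R08.FiTwentyFour.even hT.ha hT.hb⟩ : Spor.Fi24') ∈ E :=
    (hE _).2 (mem_U.2 ⟨Cfsg.Agent.R08.FiTwentyFour.even hT.ha hT.hb, (Commute.refl a).mul_left hT.ab.symm,
      hT.ab.mul_left (Commute.refl b), hT.ac.mul_left hT.bc⟩)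
  have h1 : α ∈ MulAction.stabilizer (MulAut Spor.Fi24')
      (⟨a * b, Cfsg.Agent.R08.FiTwentyFour.even hT.ha hT.hb⟩ : Spor.Fi24') := hfix _ hab
  have h2 : zpowers α ≤ MulAction.stabilizer (MulAut Spor.Fi24')
      (⟨a * b, Cfsg.Agent.R08.FiTwentyFour.even hT.ha hT.hb⟩ : Spor.Fi24') := by rwa [zpowers_le]
  have h3 : y * (⟨a * b, Cfsg.Agent.R08.FiTwentyFour.even hT.ha hT.hb⟩ : Spor.Fi24') * y⁻¹ =
      ⟨a * b, Cfsg.Agent.R08.FiTwentyFour.even hT.ha hT.hb⟩ := h2 hy
  have h4 : (y : Fi24) * (a * b) * (y : Fi24)⁻¹ = a * b := congrArg Subtype.val h3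
  have h5 : Commute (y : Fi24) (a * b) := mul_inv_eq_iff_eq_mul.1 h4
  have hy3' : (y : Fi24) ^ 3 = 1 := congrArg Subtype.val hy3
  rcases Cfsg.Agent.CpAutFi24.Tri.fix_or_swap htr hT.ha hT.hb hT.ab hT.nab h5 with ⟨h6, -⟩ | ⟨h6, h7⟩
  · exact hcon a hT.ha (mul_inv_eq_iff_eq_mul.1 h6).symm
  · have h8 : Commute ((y : Fi24) ^ 2) a := by
      show (y : Fi24) ^ 2 * a = a * (y : Fi24) ^ 2
      have h9 : (y : Fi24) ^ 2 * a * ((y : Fi24) ^ 2)⁻¹ = a := by
        calc (y : Fi24) ^ 2 * a * ((y : Fi24) ^ 2)⁻¹ = y * ((y : Fi24) * a * (y : Fi24)⁻¹) * (y : Fi24)⁻¹ := by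
              rw [pow_two]; group
          _ = a := by rw [h6, h7]
      exact mul_inv_eq_iff_eq_mul.1 h9
    have h9 : Commute (y : Fi24) a := by
      have h10 : (y : Fi24) = ((y : Fi24) ^ 2) ^ 2 := by
        rw [← pow_mul, show 2 * 2 = 3 + 1 from rfl, pow_succ, hy3', one_mul]
      rw [h10]
      exact h8.pow_left 2
    exact hcon a hT.ha h9.eq.symm

end Cfsg.Agent.H999.Ccp.FiTF
end

-- part: H859/Ccp/He
section
/-!
# S4114: the row `He` (helper859)

Explicit extraspecial Sylow subgroups `3^{1+2}`, `7^{1+2}` (words of helper415) and words conjugating the elements `z`, `y`,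
`x y^j` to other powers; one class of elements of order 5 (helper70).
-/

set_option autoImplicit false
set_option maxRecDepth 100000

namespace Cfsg.Agent.H859.Ccp.He

open Subgroup Cfsg Cfsg.Agent.H520 Cfsg.Agent.H497.Stein
open Cfsg.Spor.He (Gen)
open Cfsg.Agent.SporadicB.HePerm (act wd)
open Cfsg.Agent.FixBN.HeStab Cfsg.Agent.KFacts.He.Lv Cfsg.Agent.CpAutHe.Cnt

universe u

theorem movedAt_of_words {t c : List Gen} {k : ℕ} (i : Fin 2058) (h : chkB (c ++ t) (pw t k ++ c) = true)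
    (hne : Nat.beq (act (pw t k) i) (act t i) = false) : MovedAt (wd t) := by
  have h1 := eq_of_chkB h
  rw [wd_append, wd_append, wd_pw] at h1
  refine ⟨wd c, k, by rw [mul_inv_eq_iff_eq_mul, h1], fun h2 => ?_⟩
  rw [act_eq, act_eq, wd_pw, h2] at hne
  exact absurd hne (by rw [Nat.beq_refl]; decide)

theorem heis_of_words {p : ℕ} {U V W : List Gen} (i : Fin 2058)
    (h1 : chkB (pw U p) [] = true) (h1' : chkB (pw V p) [] = true) (h1'' : chkB (pw W p) [] = true)
    (h2 : chkB (U ++ V) (V ++ (U ++ W)) = true) (h3 : chkB (U ++ W) (W ++ U) = true)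
    (h5 : chkB (V ++ W) (W ++ V) = true) (h6 : Nat.beq (act W i) i = false) :
    Cfsg.Agent.H792.SpCube.Heis p (wd V) (wd U) (wd W) := by
  have e1 := eq_of_chkB h1
  have e1' := eq_of_chkB h1'
  have e1'' := eq_of_chkB h1''
  have e2 := eq_of_chkB h2
  have e3 := eq_of_chkB h3
  have e5 := eq_of_chkB h5
  rw [wd_pw, wd_nil] at e1 e1' e1''
  rw [wd_append, wd_append, wd_append] at e2
  rw [wd_append, wd_append] at e3 e5
  refine ⟨e1', e1, e1'', e5, e3, by rw [e2, mul_assoc], fun he => ?_⟩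
  rw [act_eq, he, map_one] at h6
  have h9 : Nat.beq (i : ℕ) (i : ℕ) = true := Nat.beq_refl _
  have h10 : Nat.beq (i : ℕ) (i : ℕ) = false := h6
  rw [h9] at h10
  exact absurd h10 (by decide)

def U3 : List Gen := [.d,.e]

def V3 : List Gen := [.c,.d,.b,.c,.d,.e,.c,.b,.d,.c]

def W3 : List Gen := [.d,.e,.c,.d,.b,.c,.d,.e,.c,.b,.d,.c,.e,.d,.c,.d,.b,.c,.e,.d,.c,.b,.d,.c]

theorem heis3 : Cfsg.Agent.H792.SpCube.Heis 3 (wd V3) (wd U3) (wd W3) := by
  refine heis_of_words 15 ?_ ?_ ?_ ?_ ?_ ?_ ?_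
  all_goals decide +kernel

theorem mz3 : MovedAt (wd W3) :=
  movedAt_of_words (c := [.a]) (k := 2) 15 (by decide +kernel) (by decide +kernel)

theorem my3 : MovedAt (wd U3) :=
  movedAt_of_words (c := [.d]) (k := 2) 2 (by decide +kernel) (by decide +kernel)

theorem mx3_0 : MovedAt (wd (V3 ++ pw U3 0)) :=
  movedAt_of_words (c := [.a]) (k := 2) 0 (by decide +kernel) (by decide +kernel)

theorem mx3_1 : MovedAt (wd (V3 ++ pw U3 1)) :=
  movedAt_of_words (c := [.a,.c,.b,.d,.c,.a]) (k := 2) 0 (by decide +kernel) (by decide +kernel)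

theorem mx3_2 : MovedAt (wd (V3 ++ pw U3 2)) :=
  movedAt_of_words (c := [.b,.a,.d,.b]) (k := 2) 0 (by decide +kernel) (by decide +kernel)

theorem moved_three : Moved 3 Spor.He := by
  have hfin : Finite Cfsg.Spor.He := Nat.finite_of_card_ne_zero (by rw [card_he]; norm_num)
  have : Fact (Nat.Prime 3) := ⟨by norm_num⟩
  refine moved_of_heis_gen (p := 3) (by norm_num) (by rw [card_he]; norm_num) heis3 mz3 my3 fun j hj => ?_
  rw [← wd_pw, ← wd_append]
  interval_cases j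
  · exact mx3_0
  · exact mx3_1
  · exact mx3_2

def U7 : List Gen := [.b,.d,.e,.c,.b,.d,.e,.c,.b,.d,.e,.c]

def V7 : List Gen := [.f,.d,.c,.d,.c,.d,.f,.b,.d,.e,.c,.b,.d,.e,.c,.b,.d,.e,.c,.f,.d,.c,.d,.c,.d,.f]

def W7 : List Gen := [.b,.d,.e,.c,.b,.d,.e,.c,.b,.d,.e,.c,.f,.d,.c,.d,.c,.d,.f,.b,.d,.e,.c,.b,.d,.e,.c,.b,.d,.e,.c,.f,.d,.c,.d,.c,.d,.f,.c,.e,.d,.b,.c,.e,.d,.b,.c,.e,.d,.b,.f,.d,.c,.d,.c,.d,.f,.c,.e,.d,.b,.c,.e,.d,.b,.c,.e,.d,.b,.f,.d,.c,.d,.c,.d,.f]

theorem heis7 : Cfsg.Agent.H792.SpCube.Heis 7 (wd V7) (wd U7) (wd W7) := by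
  refine heis_of_words 0 ?_ ?_ ?_ ?_ ?_ ?_ ?_
  all_goals decide +kernel

theorem mz7 : MovedAt (wd W7) :=
  movedAt_of_words (c := [.c,.e]) (k := 6) 0 (by decide +kernel) (by decide +kernel)

theorem my7 : MovedAt (wd U7) :=
  movedAt_of_words (c := [.b,.d]) (k := 6) 0 (by decide +kernel) (by decide +kernel)

theorem mx7_0 : MovedAt (wd (V7 ++ pw U7 0)) :=
  movedAt_of_words (c := [.e,.f,.d,.c,.d,.f,.e,.a]) (k := 6) 0 (by decide +kernel) (by decide +kernel)

theorem mx7_1 : MovedAt (wd (V7 ++ pw U7 1)) :=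
  movedAt_of_words (c := [.d,.c,.b,.f,.d,.c,.g,.d,.f,.d,.e,.b,.c,.d,.c,.d,.f,.e,.b,.c,.a]) (k := 2) 0 (by decide +kernel) (by decide +kernel)

theorem mx7_2 : MovedAt (wd (V7 ++ pw U7 2)) :=
  movedAt_of_words (c := [.c,.b,.d,.c,.d,.g,.d,.f,.d,.c,.d,.e,.b,.c,.d,.a]) (k := 2) 0 (by decide +kernel) (by decide +kernel)

theorem mx7_3 : MovedAt (wd (V7 ++ pw U7 3)) :=
  movedAt_of_words (c := [.f,.d,.c,.d,.e,.d,.c,.f,.d,.b,.c,.d,.f,.c,.d,.c,.d,.b,.a,.b,.a]) (k := 4) 0 (by decide +kernel) (by decide +kernel)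

theorem mx7_4 : MovedAt (wd (V7 ++ pw U7 4)) :=
  movedAt_of_words (c := [.d,.c,.b,.e,.d,.c,.d,.f,.e,.d,.c,.a,.b,.a]) (k := 2) 0 (by decide +kernel) (by decide +kernel)

theorem mx7_5 : MovedAt (wd (V7 ++ pw U7 5)) :=
  movedAt_of_words (c := [.c,.e,.d,.c,.b,.f,.d,.c,.g,.d,.f,.d,.e,.b,.c,.d,.c,.d,.f,.b,.a]) (k := 2) 0 (by decide +kernel) (by decide +kernel)

theorem mx7_6 : MovedAt (wd (V7 ++ pw U7 6)) :=
  movedAt_of_words (c := [.f,.d,.c,.d,.c,.d,.f]) (k := 6) 0 (by decide +kernel) (by decide +kernel)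

theorem moved_seven : Moved 7 Spor.He := by
  have hfin : Finite Cfsg.Spor.He := Nat.finite_of_card_ne_zero (by rw [card_he]; norm_num)
  have : Fact (Nat.Prime 7) := ⟨by norm_num⟩
  refine moved_of_heis_gen (p := 7) (by norm_num) (by rw [card_he]; norm_num) heis7 mz7 my7 fun j hj => ?_
  rw [← wd_pw, ← wd_append]
  interval_cases j
  · exact mx7_0
  · exact mx7_1
  · exact mx7_2
  · exact mx7_3
  · exact mx7_4
  · exact mx7_5
  · exact mx7_6

theorem moved_five : Moved 5 Spor.He := by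
  have hfin : Finite Cfsg.Spor.He := Nat.finite_of_card_ne_zero (by rw [card_he]; norm_num)
  exact moved_of_one Nat.prime_five (by norm_num) fun x y hx hy =>
    (H70.RowHe.conj_five hx).symm.trans (H70.RowHe.conj_five hy)

/-- **S4114, the row `He`.** -/
theorem row_He {G : Type u} [Group G] [Finite G] (h : Cfsg.Spor.IsoHe G) : Cfsg.Agent.H520.Row G := by
  have D := BpSpor.Row.dat_he h
  obtain ⟨e⟩ := h
  refine row_of_dat D (l := [(2, 10), (3, 3), (5, 2), (7, 3), (17, 1)])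
    (by decide +kernel) (by norm_num) fun x hx hx2 hx3 => ?_
  simp only [List.mem_cons, List.not_mem_nil, or_false] at hx
  rcases hx with rfl | rfl | rfl | rfl | rfl
  · exact absurd rfl hx3
  · exact moved_three.congr e
  · exact moved_five.congr e
  · exact moved_seven.congr e
  all_goals exact absurd hx2 (by norm_num)

end Cfsg.Agent.H859.Ccp.He
end

-- part: H999/Ccp/Fi24
section
/-!
# S4114: the row `Fi24'` (helper999)
-/

set_option autoImplicit false

namespace Cfsg.Agent.H999.Ccp.FiTF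

open Subgroup Cfsg Cfsg.Spor Cfsg.Agent.H520 Cfsg.Agent.H497.Stein
open Cfsg.Agent.R08.FiTwentyFour (L finite_Fi24)
open Cfsg.Agent.CpAutFi24.OutInv Cfsg.Agent.CpAutFi24.Unit Cfsg.Agent.CpAutFi24.Row

universe u

/-- a subgroup `He` of `Fi24'` -/
theorem exists_he : ∃ φ : Spor.He →* Spor.Fi24', Function.Injective φ := by
  obtain ⟨ψ, hψ⟩ := H868.HeFi24.exists_embedding
  have hle : ∀ x, ψ x ∈ commutator Spor.Fi24 :=
    Fischer.HeInFi24.he_range_le ψ (commutator Spor.Fi24) Fischer.Fi24Final.index_commutator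
  exact ⟨ψ.codRestrict (commutator Spor.Fi24) hle, fun a b h => hψ (congrArg Subtype.val h)⟩

/-- elements of order 5 and 7 -/
theorem moved_of_he {p : ℕ} (hp : p.Prime) {m k : ℕ} (h1 : 1255205709190661721292800 = p ^ k * m) (hm : ¬ p ∣ m)
    (h2 : p ^ k ∣ 4030387200) (h : Moved p Spor.He) : Moved p Spor.Fi24' := by
  have hpf : Fact p.Prime := ⟨hp⟩
  have hfin : Finite Spor.Fi24' := Schreier.FiTwentyFour.finite
  obtain ⟨φ, hφ⟩ := exists_he
  refine Moved.of_hom φ hφ ?_ h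
  intro j hj
  rw [FixBN.HeStab.card_he]
  rw [Schreier.FiTwentyFour.card_eq, h1] at hj
  have hcop : Nat.Coprime (p ^ j) m := ((Nat.Prime.coprime_iff_not_dvd hp).2 hm).pow_left j
  exact (hcop.dvd_of_dvd_mul_right hj).trans h2

theorem moved_five : Moved 5 Spor.Fi24' :=
  moved_of_he (k := 2) (m := 50208228367626468851712) Nat.prime_five (by norm_num) (by norm_num) (by norm_num)
    H859.Ccp.He.moved_five

theorem moved_seven : Moved 7 Spor.Fi24' :=
  moved_of_he (k := 3) (m := 3659491863529626009600) (by norm_num) (by norm_num) (by norm_num) (by norm_num)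
    H859.Ccp.He.moved_seven

theorem not_dvd [Finite Spor.Fi24'] {α : MulAut Spor.Fi24'} (h : Cfg α) {p : ℕ} (hp : p.Prime) (h2 : p ≠ 2) (h3 : p ≠ 3) :
    ¬ p ∣ orderOf α := by
  have D := BpSpor.Row.dat_fi24 (K := Spor.Fi24') ⟨MulEquiv.refl _⟩
  have hs := D.simple
  refine not_dvd_of_moved h hp (D.inn p hp h2) ?_
  by_cases hd : p ^ 2 ∣ 1255205709190661721292800
  · obtain ⟨k, hk, h2k⟩ := OrdDiv.exists_pair
      (l := [(2, 21), (3, 16), (5, 2), (7, 3), (11, 1), (13, 1), (17, 1), (23, 1), (29, 1)]) (by decide +kernel) hp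
      (by norm_num : 1 ≤ 2) hd
    simp only [List.mem_cons, List.not_mem_nil, or_false, Prod.mk.injEq] at hk
    rcases hk with ⟨rfl, rfl⟩ | ⟨rfl, rfl⟩ | ⟨rfl, rfl⟩ | ⟨rfl, rfl⟩ | ⟨rfl, rfl⟩ | ⟨rfl, rfl⟩ | ⟨rfl, rfl⟩ |
      ⟨rfl, rfl⟩ | ⟨rfl, rfl⟩
    · exact absurd rfl h2
    · exact absurd rfl h3
    · exact moved_five
    · exact moved_seven
    all_goals exact absurd h2k (by norm_num)
  · exact moved_of_not_sq h.na hp (by rw [D.card]; exact hd)

theorem row_model : Row Spor.Fi24' := by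
  have hfin : Finite Spor.Fi24' := Schreier.FiTwentyFour.finite
  have D := BpSpor.Row.dat_fi24 (K := Spor.Fi24') ⟨MulEquiv.refl _⟩
  intro α h
  have hcb := h.center_bot
  have hd2 : 2 ∣ orderOf α := by
    obtain ⟨p, hp, hp3, hd⟩ := h.exists_prime_ne Nat.prime_three (by rw [D.card]; norm_num)
    by_cases hp2 : p = 2
    · rwa [← hp2]
    · exact absurd hd (not_dvd h hp hp2 hp3)
  have hd3 : 3 ∣ orderOf α := by
    obtain ⟨p, hp, hp2, hd⟩ := h.exists_prime_ne Nat.prime_two (by rw [D.card]; norm_num)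
    by_cases hp3 : p = 3
    · rwa [← hp3]
    · exact absurd hd (not_dvd h hp hp2 hp3)
  obtain ⟨β, hβ, hβo⟩ := exists_prime_order Nat.prime_two hd2
  obtain ⟨x, hy, hxo⟩ := exists_prime_order Nat.prime_three hd3
  obtain ⟨y, rfl⟩ := D.inn 3 Nat.prime_three (by norm_num) x hxo
  have hyo : orderOf y = 3 := by
    rw [← hxo]
    exact (orderOf_injective _ (fun a b hab => conj_inj hcb hab) y).symm
  have hy3 : y ^ 3 = 1 := by rw [← hyo, pow_orderOf_eq_one]
  have hcon : ∀ d ∈ L, d * (y : Fi24) ≠ (y : Fi24) * d := fun d hd hdy =>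
    not_movedAt h hy (movedAt_of_comm hyo hd hdy)
  obtain ⟨g₀, hg₀⟩ := KFacts.FiTF.exists_conj α
  obtain ⟨s, hs⟩ := KFacts.FiTF.exists_conj β
  have hββ : β * β = 1 := by rw [← pow_two, ← hβo, pow_orderOf_eq_one]
  have hβ1 : β ≠ 1 := by
    rintro rfl
    rw [orderOf_one] at hβo
    norm_num at hβo
  have hss : s * s = 1 := by
    apply eq_one_of_comm
    intro k hk
    have h1 : β (β ⟨k, hk⟩) = ⟨k, hk⟩ := DFunLike.congr_fun hββ ⟨k, hk⟩
    have h2 := congrArg Subtype.val h1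
    rw [hs, hs] at h2
    have h3 : s * (s * k * s⁻¹) * s⁻¹ = k := h2
    calc s * s * k = s * (s * k * s⁻¹) * s⁻¹ * (s * s) := by group
      _ = k * (s * s) := by rw [h3]
  have hs1 : s ≠ 1 := by
    rintro rfl
    apply hβ1
    ext k
    rw [hs]
    simp
  -- `g₀` and `s` commute
  have hg₀s : Commute g₀ s := by
    have h1 : g₀ * s * g₀⁻¹ * s⁻¹ = 1 := by
      apply eq_one_of_comm
      intro k hk
      have h2 : (α * β) (β⁻¹ (α⁻¹ ⟨k, hk⟩)) = ⟨k, hk⟩ := by
        rw [MulAut.mul_apply, MulAut.apply_inv_self, MulAut.apply_inv_self]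
      have h3 : Commute α β := Cfg.comm_zpowers (mem_zpowers α) hβ
      have h4 : ∀ w : Spor.Fi24', (β (α w) : Fi24) = (α (β w) : Fi24) := fun w =>
        congrArg Subtype.val (DFunLike.congr_fun h3.symm.eq w)
      -- the element `w` with `β (α w) = k`
      obtain ⟨w, hw⟩ : ∃ w, β (α w) = ⟨k, hk⟩ := ⟨α⁻¹ (β⁻¹ ⟨k, hk⟩), by
        rw [MulAut.apply_inv_self, MulAut.apply_inv_self]⟩
      have h5 : s * (g₀ * (w : Fi24) * g₀⁻¹) * s⁻¹ = k := by
        rw [← hg₀, ← hs, hw]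
      have h6 : g₀ * (s * (w : Fi24) * s⁻¹) * g₀⁻¹ = k := by
        rw [← hs, ← hg₀, ← h4, hw]
      have h7 : (w : Fi24) = g₀⁻¹ * s⁻¹ * k * s * g₀ := by
        rw [← h5]; group
      rw [h7] at h6
      calc g₀ * s * g₀⁻¹ * s⁻¹ * k = g₀ * (s * (g₀⁻¹ * s⁻¹ * k * s * g₀) * s⁻¹) * g₀⁻¹ * (g₀ * s * g₀⁻¹ * s⁻¹) := by
            group
        _ = k * (g₀ * s * g₀⁻¹ * s⁻¹) := by rw [h6]
    have h2 : g₀ * s * g₀⁻¹ = s := mul_inv_eq_one.1 h1
    exact mul_inv_eq_iff_eq_mul.1 h2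
  -- `s` and `y` commute
  have hsy : s * (y : Fi24) = (y : Fi24) * s := by
    have h1 : β y = y := by
      have h2 : Commute β (MulAut.conj y) := Cfg.comm_zpowers hβ hy
      have h3 : β * MulAut.conj y * β⁻¹ = MulAut.conj (β y) := by
        ext k
        show ((β (y * β⁻¹ k * y⁻¹) : Spor.Fi24') : Fi24) = ((β y * k * (β y)⁻¹ : Spor.Fi24') : Fi24)
        rw [map_mul, map_mul, map_inv, MulAut.apply_inv_self]
      have h4 : MulAut.conj (β y) = MulAut.conj y := by
        rw [← h3, h2.eq, mul_inv_cancel_right]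
      exact conj_inj hcb h4
    have h2 := congrArg Subtype.val h1
    rw [hs] at h2
    exact mul_inv_eq_iff_eq_mul.1 h2
  by_cases hsc : s ∈ commutator Fi24
  · refine false_even h (s := ⟨s, hsc⟩) hy hy3 hcon (Subtype.ext ?_) (Subtype.ext hss) (fun e => hs1 (congrArg Subtype.val e))
      (Subtype.ext hsy)
    rw [hg₀]
    show g₀ * s * g₀⁻¹ = s
    rw [hg₀s.eq, mul_inv_cancel_right]
  · rcases outer_cases hsc hss with h1 | ⟨a, b, c, hT, rfl⟩
    · exact hcon s h1 hsy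
    · exact false_tri h hy hy3 hcon hg₀ hT hg₀s

/-- **S4114, the row `Fi24'`.** -/
theorem row_Fi24' {G : Type u} [Group G] [Finite G] (h : Spor.IsoFi24' G) : Cfsg.Agent.H520.Row G := by
  obtain ⟨e⟩ := h
  exact row_model.congr e

end Cfsg.Agent.H999.Ccp.FiTF
end
end

-- part: H285/Ccp/Tits_mg
section
set_option linter.all false
open scoped Cfsg.Agent.FastGrp

-- part: H285/Ccp/Tits
section
/-!
# S4114: the row of the Tits group (helper285)

* `moved_three` : the elements of order 3 are conjugate to `t` (`H87.TitsData`);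
* `moved_of_pair` : `c` acts on an elementary abelian Sylow subgroup `⟨x, y⟩` as the `a`-th power;
* `moved_five`, `row_tits`.
-/

set_option autoImplicit false
set_option maxRecDepth 100000

namespace Cfsg.Agent.H285.Ccp.Tits

open Subgroup Cfsg Cfsg.Agent.H520 Cfsg.Agent.H497.Stein Cfsg.Agent.H792.SpCube

universe u

/-! ### Elementary abelian Sylow subgroups of rank two -/

section pair

variable {G : Type*} [Group G] {x y : G}

/-- the products `x ^ i * y ^ j` -/
def H (h : x * y = y * x) : Subgroup G where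
  carrier := {g | ∃ i j : ℤ, g = x ^ i * y ^ j}
  one_mem' := ⟨0, 0, by simp⟩
  mul_mem' := by
    rintro _ _ ⟨i, j, rfl⟩ ⟨k, l, rfl⟩
    refine ⟨i + k, j + l, ?_⟩
    have h1 : x ^ k * y ^ j = y ^ j * x ^ k := ((show Commute x y from h).zpow_zpow k j).eq
    calc x ^ i * y ^ j * (x ^ k * y ^ l) = x ^ i * (y ^ j * x ^ k) * y ^ l := by group
      _ = x ^ i * (x ^ k * y ^ j) * y ^ l := by rw [h1]
      _ = x ^ (i + k) * y ^ (j + l) := by rw [zpow_add, zpow_add]; group
  inv_mem' := by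
    rintro _ ⟨i, j, rfl⟩
    refine ⟨-i, -j, ?_⟩
    have h1 := ((show Commute x y from h).zpow_zpow (-i) (-j)).eq
    rw [mul_inv_rev, ← zpow_neg, ← zpow_neg, h1]

/-- `c` acts on `⟨x, y⟩` as the `a`-th power and `y ∉ ⟨x⟩` by `r`. -/
theorem moved_of_pair [Finite G] {p : ℕ} [hp : Fact p.Prime] (hp2 : p ≠ 2) (h3 : ¬ p ^ 3 ∣ Nat.card G)
    (h : x * y = y * x) (hx : x ^ p = 1) (hy : y ^ p = 1) (hx1 : x ≠ 1) (hy1 : y ≠ 1) {r : G}
    (hrx : r * x = x * r) (hry : r * y * r⁻¹ = y⁻¹) {c : G} {a : ℕ} (ha : ¬ (p : ℤ) ∣ a - 1)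
    (hcx : c * x * c⁻¹ = x ^ a) (hcy : c * y * c⁻¹ = y ^ a) : Moved p G := by
  have hxo : orderOf x = p := orderOf_eq_prime hx hx1
  have hHp : IsPGroup p (H h) := by
    rintro ⟨g, i, j, rfl⟩
    refine ⟨1, Subtype.ext ?_⟩
    show (x ^ i * y ^ j) ^ (p ^ 1) = 1
    rw [pow_one, ((show Commute x y from h).zpow_zpow i j).mul_pow, ← zpow_natCast, ← zpow_natCast, ← zpow_mul,
      ← zpow_mul, mul_comm i, mul_comm j, zpow_mul, zpow_mul, zpow_natCast, zpow_natCast, hx, hy, one_zpow, one_zpow,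
      one_mul]
  have hle : zpowers x ≤ H h := by
    rw [zpowers_le]
    exact ⟨1, 0, by simp⟩
  have hyx : y ∉ zpowers x := by
    intro hm
    obtain ⟨k, hk⟩ := mem_zpowers_iff.1 hm
    have h1 : r * y * r⁻¹ = y := by
      rw [← hk, ((show Commute r x from hrx).zpow_right k).eq, mul_inv_cancel_right]
    rw [hry] at h1
    have h2 : y ^ 2 = 1 := by
      rw [pow_two]
      nth_rewrite 1 [← h1]
      exact inv_mul_cancel y
    have h4 : orderOf y = p := orderOf_eq_prime hy hy1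
    have h5 := orderOf_dvd_of_pow_eq_one h2
    rw [h4] at h5
    exact hp2 ((Nat.prime_dvd_prime_iff_eq hp.out Nat.prime_two).1 h5)
  obtain ⟨Q, hQ⟩ := hHp.exists_le_sylow
  have hcard : Nat.card (Q : Subgroup G) ≤ Nat.card (H h) := by
    obtain ⟨n, hn⟩ := IsPGroup.iff_card.1 Q.2
    obtain ⟨m, hm⟩ := IsPGroup.iff_card.1 hHp
    have hn2 : n ≤ 2 := by
      by_contra hlt
      apply h3
      refine (pow_dvd_pow p (by omega : 3 ≤ n)).trans ?_
      rw [← hn]
      exact card_subgroup_dvd_card _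
    have hm2 : 2 ≤ m := by
      by_contra hlt
      have h4 : Nat.card (H h) ≤ Nat.card (zpowers x) := by
        rw [hm, Nat.card_zpowers, hxo]
        calc p ^ m ≤ p ^ 1 := Nat.pow_le_pow_right hp.out.pos (by omega)
          _ = p := pow_one p
      have h5 := eq_of_le_of_card_ge hle h4
      apply hyx
      rw [h5]
      exact ⟨0, 1, by simp⟩
    rw [hn, hm]
    exact Nat.pow_le_pow_right hp.out.pos (by omega)
  have hQe : H h = (Q : Subgroup G) := eq_of_le_of_card_ge hQ hcard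
  refine moved_of_sylow Q fun s hs hso => ?_
  rw [← hQe] at hs
  obtain ⟨i, j, rfl⟩ := hs
  have e : ∀ (g : G) (k : ℤ), c * g ^ k * c⁻¹ = (c * g * c⁻¹) ^ k := fun g k => by rw [conj_zpow]
  have h1 : c * (x ^ i * y ^ j) * c⁻¹ = (x ^ i * y ^ j) ^ a := by
    calc c * (x ^ i * y ^ j) * c⁻¹ = (c * x ^ i * c⁻¹) * (c * y ^ j * c⁻¹) := by group
      _ = (x ^ i * y ^ j) ^ a := by
        rw [e, e, hcx, hcy, ((show Commute x y from h).zpow_zpow i j).mul_pow, ← zpow_natCast, ← zpow_natCast,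
          ← zpow_natCast, ← zpow_natCast, ← zpow_mul, ← zpow_mul, ← zpow_mul, ← zpow_mul, mul_comm i, mul_comm j]
  refine ⟨c, a, h1, fun h4 => ha ?_⟩
  have h5 : (x ^ i * y ^ j) ^ ((a : ℤ) - 1) = 1 := by
    rw [zpow_sub, zpow_one, zpow_natCast, h4, mul_inv_cancel]
  have h6 := orderOf_dvd_iff_zpow_eq_one.2 h5
  rwa [hso] at h6

end pair

/-! ### The elements of order 3 -/

theorem moved_three_of_dat {G : Type u} [Group G] [Finite G] (D : H87.TitsAbs.Dat G) (h4 : ¬ 3 ^ 4 ∣ Nat.card G) :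
    Moved 3 G := by
  have : Fact (Nat.Prime 3) := ⟨Nat.prime_three⟩
  have ht : MovedAt D.t := by
    have h1 := D.conj 2 (by norm_num) 0 (by norm_num) 0 (by norm_num) (Or.inl (by norm_num))
    rw [pow_zero, pow_zero, mul_one, mul_one] at h1
    obtain ⟨g, hg⟩ := isConj_iff.1 h1.symm
    refine ⟨g, 2, hg, fun h2 => D.t1 ?_⟩
    rw [pow_two] at h2
    exact mul_eq_left.1 h2
  have key : ∀ a < 3, ∀ b < 3, ∀ c < 3, (a ≠ 0 ∨ b ≠ 0 ∨ c ≠ 0) → MovedAt (D.t ^ a * D.s ^ b * D.z ^ c) :=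
    fun a ha b hb c hc h => MovedAt.of_isConj (D.conj a ha b hb c hc h).symm ht
  have hH : Heis 3 D.s D.t D.z := by
    refine ⟨D.s3, D.t3, D.z3, D.zs.symm, D.zt.symm, ?_, ?_⟩
    · rw [D.ts, ← mul_assoc, D.zs, mul_assoc, D.zt, ← mul_assoc]
    · intro h
      obtain ⟨g, hg⟩ := isConj_iff.1 (D.conj 0 (by norm_num) 0 (by norm_num) 1 (by norm_num)
        (Or.inr (Or.inr (by norm_num)))).symm
      rw [pow_zero, pow_zero, one_mul, one_mul, pow_one, h] at hg
      apply D.t1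
      have h2 : g * D.t = g := by
        calc g * D.t = g * D.t * g⁻¹ * g := by group
          _ = g := by rw [hg, one_mul]
      exact mul_eq_left.1 h2
  refine moved_of_heis_gen (by norm_num) h4 hH ?_ ht fun j hj => ?_
  · have h := key 0 (by norm_num) 0 (by norm_num) 1 (by norm_num) (Or.inr (Or.inr (by norm_num)))
    rwa [pow_zero, pow_zero, one_mul, one_mul, pow_one] at h
  · have e : ∃ k < 3, D.s * D.t ^ j = D.t ^ j * D.s ^ 1 * D.z ^ k := by
      have h1 := D.st_pow j 1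
      rw [pow_one] at h1
      have h2 : D.z ^ (2 * 1 * j) = D.z ^ ((2 * 1 * j) % 3) := by
        conv_lhs => rw [← Nat.mod_add_div (2 * 1 * j) 3, pow_add, pow_mul, D.z3, one_pow, mul_one]
      refine ⟨(2 * 1 * j) % 3, Nat.mod_lt _ (by norm_num), ?_⟩
      rw [pow_one, h1, h2]
    obtain ⟨k, hk, e⟩ := e
    rw [e]
    exact key j hj 1 (by norm_num) k hk (Or.inr (Or.inl (by norm_num)))

/-! ### The elements of order 5 -/

section five

open Cfsg.Agent.KFacts.OddLift.Basic Cfsg.Agent.KFacts.OddLift.TitMat Cfsg.Agent.KFacts.OddLift.TitGen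
open Cfsg.Agent.SporadicRecognition.CosetCert Cfsg.Agent.SporadicRecognition.CosetCertHyp
open Cfsg.Agent.ChevalleyStructure.Tits.Pack Cfsg.Agent.ChevalleyStructure.Tits.Mat
  Cfsg.Agent.ChevalleyStructure.Tits.Main Cfsg.Agent.ChevalleyStructure.Tits.Order
open Cfsg.Agent.H87.TitsData (pw ev_pw toMat_ne)
open scoped MatrixGroups

/-- words of `x`, `y`, `r`, `c` -/
def xw : List ℕ := [6, 3, 4, 0, 0]

@[inherit_doc xw] def yw' : List ℕ := [2, 5, 2, 4, 0, 6, 3, 6, 4, 0]

@[inherit_doc xw] def rw' : List ℕ := [3, 0, 4, 0, 7, 1, 1, 3, 5, 1, 6]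

@[inherit_doc xw] def cw' : List ℕ := [0, 3, 7, 2, 5, 6]

/-- relations `u = v` -/
def rl : List (List ℕ × List ℕ) := [(pw xw 5, []), (pw yw' 5, []), (xw ++ yw', yw' ++ xw), (rw' ++ xw, xw ++ rw'),
  (yw' ++ (rw' ++ yw'), rw'), (cw' ++ xw, pw xw 2 ++ cw'), (cw' ++ yw', pw yw' 2 ++ cw')]

theorem rl_ok : rl.all (fun p => Nat.beq (evP p.1) (evP p.2)) = true := by decide +kernel

theorem rl_lt : rl.all (fun p => (p.1.all fun y => Nat.blt y 8) && p.2.all fun y => Nat.blt y 8) = true := by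
  decide +kernel

theorem rel {u v : List ℕ} (h : (u, v) ∈ rl) : ev (lt b 4) u = ev (lt b 4) v := by
  have h1 := rl_ok
  rw [List.all_eq_true] at h1
  have h2 := rl_lt
  rw [List.all_eq_true] at h2
  have h3 := h2 _ h
  rw [Bool.and_eq_true] at h3
  apply Subtype.ext
  rw [coe_ev_b, coe_ev_b]
  apply Subtype.ext
  rw [coe_ev_bH, coe_ev_bH]
  apply Units.ext
  rw [coe_ev (all_lt8 h3.1), coe_ev (all_lt8 h3.2), Nat.eq_of_beq_eq_true (h1 _ h)]

theorem ev_ne {w : List ℕ} (hw : (w.all fun y => Nat.blt y 8) = true) (k : Fin 48)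
    (h : (evP w).testBit (4 + k) = true) : ev (lt b 4) w ≠ 1 := by
  intro h1
  have h2 : ((ev (lt b 4) w : commutator H0) : H0) = 1 := by rw [h1]; rfl
  rw [coe_ev_b] at h2
  have h3 : ((ev (lt bH 4) w : H0) : GL I52 (ZMod 2)) = 1 := by rw [h2]; rfl
  rw [coe_ev_bH] at h3
  have h4 := coe_ev (all_lt8 hw)
  rw [h3, Units.val_one] at h4
  exact toMat_ne k h h4.symm

theorem bitx : (evP xw).testBit 7 = true := by decide +kernel

theorem bity : (evP yw').testBit 7 = true := by decide +kernel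

theorem moved_five_aux (h3 : ¬ 5 ^ 3 ∣ Nat.card (commutator H0)) [Finite (commutator H0)] : Moved 5 (commutator H0) := by
  have : Fact (Nat.Prime 5) := ⟨by norm_num⟩
  have h1 := rel (u := pw xw 5) (v := []) (by simp [rl])
  have h2 := rel (u := pw yw' 5) (v := []) (by simp [rl])
  have h4 := rel (u := xw ++ yw') (v := yw' ++ xw) (by simp [rl])
  have h5 := rel (u := rw' ++ xw) (v := xw ++ rw') (by simp [rl])
  have h6 := rel (u := yw' ++ (rw' ++ yw')) (v := rw') (by simp [rl])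
  have h7 := rel (u := cw' ++ xw) (v := pw xw 2 ++ cw') (by simp [rl])
  have h8 := rel (u := cw' ++ yw') (v := pw yw' 2 ++ cw') (by simp [rl])
  rw [ev_pw, ev_nil] at h1 h2
  rw [ev_append, ev_append] at h4 h5 h6
  rw [ev_append, ev_append, ev_pw] at h7 h8
  refine moved_of_pair (x := ev (lt b 4) xw) (y := ev (lt b 4) yw') (r := ev (lt b 4) rw') (c := ev (lt b 4) cw')
    (a := 2) (by norm_num) h3 h4 h1 h2 (ev_ne (by decide) 3 bitx) (ev_ne (by decide) 3 bity) h5 ?_ (by norm_num) ?_ ?_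
  · rw [mul_inv_eq_iff_eq_mul, eq_inv_mul_iff_mul_eq]
    exact h6
  · rw [h7, mul_inv_cancel_right]
  · rw [h8, mul_inv_cancel_right]

theorem moved_aux (K : Subgroup (GL I52 (ZMod 2))) (hK : K = H0) : Moved 5 (commutator K) := by
  subst hK
  have hc : Nat.card (commutator H0) = 2 ^ 11 * 3 ^ 3 * 5 ^ 2 * 13 := H0_result.2.2.2
  have : Finite (commutator H0) := Nat.finite_of_card_ne_zero (by rw [hc]; norm_num)
  exact moved_five_aux (by rw [hc]; norm_num)

end five

theorem moved_five : Moved 5 Lie.TitsGroup := moved_aux _ Cfsg.Agent.ChevalleyStructure.Tits.Main.T0_eq_H0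

theorem moved_three : Moved 3 Lie.TitsGroup := by
  obtain ⟨D⟩ := H87.TitsData.dat_tits
  have hc := H87.TitsData.card_tits
  have : Finite Lie.TitsGroup := Nat.finite_of_card_ne_zero (by rw [hc]; norm_num)
  exact moved_three_of_dat D (by rw [hc]; norm_num)

theorem moved_of_tits {p : ℕ} {G : Type u} [Group G] (e : G ≃* Lie.TitsGroup) : Moved p Lie.TitsGroup → Moved p G :=
  Moved.congr e

theorem moved_three' {G : Type u} [Group G] (h : Lie.IsoTits G) : Moved 3 G :=
  h.elim fun e => moved_of_tits e moved_three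

theorem moved_five' {G : Type u} [Group G] (h : Lie.IsoTits G) : Moved 5 G :=
  h.elim fun e => moved_of_tits e moved_five

/-- **S4114, the row of the Tits group.** -/
theorem row_tits {G : Type u} [Group G] [Finite G] (h : Lie.IsoTits G) : Row G := by
  refine row_of_dat (BpSpor.Row.dat_tits h) (l := [(2, 11), (3, 3), (5, 2), (13, 1)]) (by decide +kernel) (by norm_num)
    fun x hx hx2 hx3 => ?_
  simp only [List.mem_cons, List.not_mem_nil, or_false] at hx
  rcases hx with rfl | rfl | rfl | rfl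
  · exact absurd rfl hx3
  · exact moved_three' h
  · exact moved_five' h
  · exact absurd hx2 (by norm_num)

end Cfsg.Agent.H285.Ccp.Tits
end

-- part: H859/Ccp/Co2
section
/-!
# S4114: the row `Co2` (helper859)

`McL ≤ Co2` has index prime to 3; `PSU₃(5) ≤ Co2` has index prime to 5.
-/

set_option autoImplicit false

namespace Cfsg.Agent.H859.Ccp.Co2

open Subgroup Cfsg Cfsg.Agent.H520 Cfsg.Agent.H497.Stein
open Cfsg.Agent.H792.SpU35 (card_Co2 card_Co3 card_McL exists_tri_mcl)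

universe u

theorem finite_Co2 : Finite Spor.Co2 := Nat.finite_of_card_ne_zero (by rw [card_Co2]; norm_num)

theorem finite_McL : Finite Spor.McL := Nat.finite_of_card_ne_zero (by rw [card_McL]; norm_num)

theorem moved_three : Moved 3 Spor.Co2 := by
  have := finite_Co2
  have := finite_McL
  have : Fact (Nat.Prime 3) := ⟨Nat.prime_three⟩
  refine Moved.of_hom (Subgroup.inclusion H526.SpMcL.mcl_le_co2) (inclusion_injective _) (fun k hk => ?_)
    (moved_mcl_three ⟨MulEquiv.refl _⟩)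
  rw [card_Co2, show (42305421312000 : ℕ) = 3 ^ 6 * 58032128000 by norm_num] at hk
  rw [card_McL]
  exact (pow_dvd_of Nat.prime_three (by norm_num) hk).trans (by norm_num)

theorem moved_five : Moved 5 Spor.Co2 := by
  have := finite_Co2
  obtain ⟨x, T⟩ := exists_tri_mcl
  exact Tri.moved T Spor.Co2 (m := 338443370496) (by rw [card_Co2]; norm_num) (by norm_num)
    fun g _ _ h2 => ⟨g.2, h2⟩

/-- **S4114, the row `Co2`.** -/
theorem row_Co2 {G : Type u} [Group G] [Finite G] (h : Cfsg.Spor.IsoCo2 G) : Cfsg.Agent.H520.Row G := by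
  have D := BpSpor.Row.dat_co2 h
  obtain ⟨e⟩ := h
  refine row_of_dat D (l := [(2, 18), (3, 6), (5, 3), (7, 1), (11, 1), (23, 1)])
    (by decide +kernel) (by norm_num) fun x hx hx2 hx3 => ?_
  simp only [List.mem_cons, List.not_mem_nil, or_false] at hx
  rcases hx with rfl | rfl | rfl | rfl | rfl | rfl
  · exact absurd rfl hx3
  · exact moved_three.congr e
  · exact moved_five.congr e
  all_goals exact absurd hx2 (by norm_num)

end Cfsg.Agent.H859.Ccp.Co2
end

-- part: H859/Ccp/Tools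
section
/-!
# Tools for `Moved p G` (helper859)

* `moved_of_subgroup` : it is enough to consider the elements of a subgroup of index prime to `p`;
* `moved_of_rank_two` : a Sylow `p`-subgroup `⟨a, b⟩` of order `p ^ 2` on which `c` acts as the `j`-th power.
-/

set_option autoImplicit false

namespace Cfsg.Agent.H859.Ccp.Tools

open Subgroup Cfsg Cfsg.Agent.H497.Stein

universe u

variable {G : Type u} [Group G] [Finite G] {p : ℕ} [hp : Fact p.Prime]

/-- `p`-elements are conjugate into subgroups of index prime to `p` -/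
theorem exists_conj_mem {H : Subgroup G} (hi : ¬ p ∣ H.index) {y : G} (hy : orderOf y = p) : ∃ g : G, g * y * g⁻¹ ∈ H := by
  obtain ⟨P⟩ : Nonempty (Sylow p H) := inferInstance
  let Q : Subgroup G := (P : Subgroup H).map H.subtype
  have hQc : Nat.card Q = Nat.card (P : Subgroup H) := card_map_of_injective H.subtype_injective
  have hQ : Nat.card Q = p ^ (Nat.card G).factorization p := by
    rw [hQc, P.card_eq_multiplicity, ← H.card_mul_index,
      Nat.factorization_mul Nat.card_pos.ne' (index_ne_zero_of_finite), Finsupp.add_apply,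
      Nat.factorization_eq_zero_of_not_dvd hi, add_zero]
  let S : Sylow p G := Sylow.ofCard Q hQ
  have h1 : IsPGroup p (zpowers y) := IsPGroup.of_card (n := 1) (by rw [Nat.card_zpowers, hy, pow_one])
  obtain ⟨R, hR⟩ := h1.exists_le_sylow
  obtain ⟨g, hg⟩ := MulAction.exists_smul_eq G R S
  refine ⟨g, ?_⟩
  have h2 : g * y * g⁻¹ ∈ (S : Subgroup G) := by
    rw [← hg]
    exact ⟨y, hR (mem_zpowers y), rfl⟩
  have h3 : (S : Subgroup G) ≤ H := by
    show Q ≤ H
    exact map_subtype_le _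
  exact h3 h2

theorem moved_of_subgroup (H : Subgroup G) (hi : ¬ p ∣ H.index)
    (h : ∀ y ∈ H, orderOf y = p → MovedAt y) : Moved p G := by
  intro y hy
  obtain ⟨g, hg⟩ := exists_conj_mem hi hy
  refine MovedAt.of_conj (k := g) (h _ hg ?_)
  rw [← MulAut.conj_apply, MulEquiv.orderOf_eq, hy]

/-- **A Sylow `p`-subgroup of order `p ^ 2` with a scalar action.** -/
theorem moved_of_rank_two (h3 : ¬ p ^ 3 ∣ Nat.card G) {a b c : G} {j : ℕ} (ha : a ^ p = 1) (hb : b ^ p = 1)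
    (ha1 : a ≠ 1) (hab : a * b = b * a) (hba : b ∉ zpowers a) (hj : ¬ (p : ℤ) ∣ j - 1)
    (hca : c * a * c⁻¹ = a ^ j) (hcb : c * b * c⁻¹ = b ^ j) : Moved p G := by
  have hcomm : Commute a b := hab
  let φ : Multiplicative ℤ × Multiplicative ℤ →* G :=
    MonoidHom.noncommCoprod (zpowersHom G a) (zpowersHom G b) (by
      intro m n
      exact (hcomm.zpow_left _).zpow_right _)
  have hφ : ∀ m n : Multiplicative ℤ, φ (m, n) = a ^ m.toAdd * b ^ n.toAdd := fun m n => rfl
  have hmem : ∀ y ∈ φ.range, ∃ m n : ℤ, y = a ^ m * b ^ n := by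
    rintro _ ⟨⟨m, n⟩, rfl⟩
    exact ⟨_, _, hφ m n⟩
  have hpow : ∀ y ∈ φ.range, y ^ p = 1 := by
    intro y hy
    obtain ⟨m, n, rfl⟩ := hmem y hy
    rw [((hcomm.zpow_left m).zpow_right n).mul_pow, ← zpow_natCast, ← zpow_natCast, ← zpow_mul, ← zpow_mul, mul_comm m,
      mul_comm n, zpow_mul, zpow_mul, zpow_natCast, zpow_natCast, ha, hb, one_zpow, one_zpow, one_mul]
  have hP : IsPGroup p φ.range := by
    intro y
    exact ⟨1, Subtype.ext (by rw [pow_one]; exact hpow _ y.2)⟩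
  have haR : a ∈ φ.range := ⟨(Multiplicative.ofAdd 1, 1), by
    rw [hφ]; simp⟩
  have hbR : b ∈ φ.range := ⟨(1, Multiplicative.ofAdd 1), by
    rw [hφ]; simp⟩
  obtain ⟨S, hS⟩ := hP.exists_le_sylow
  have hoa : orderOf a = p := orderOf_eq_prime ha ha1
  have hlt : zpowers a < φ.range := lt_of_le_of_ne (zpowers_le.2 haR) fun e => hba (by rw [e]; exact hbR)
  have hcard : p ^ 2 ∣ Nat.card φ.range := by
    obtain ⟨k, hk⟩ := IsPGroup.iff_card.1 hP
    have h1 : Nat.card (zpowers a) < Nat.card φ.range := by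
      have := Set.ncard_lt_ncard (show ((zpowers a : Subgroup G) : Set G) ⊂ (φ.range : Set G) from hlt) (Set.toFinite _)
      exact this
    rw [Nat.card_zpowers, hoa, hk] at h1
    rw [hk]
    refine pow_dvd_pow p ?_
    by_contra hk2
    have h2 : p ^ k ≤ p ^ 1 := Nat.pow_le_pow_right hp.out.pos (by omega)
    rw [pow_one] at h2
    omega
  have hSc : Nat.card (S : Subgroup G) ∣ p ^ 2 := by
    obtain ⟨k, hk⟩ := IsPGroup.iff_card.1 S.2
    rw [hk]
    refine pow_dvd_pow p ?_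
    by_contra hk2
    exact h3 ((pow_dvd_pow p (by omega : 3 ≤ k)).trans (hk ▸ card_subgroup_dvd_card (S : Subgroup G)))
  have hSe : (S : Subgroup G) = φ.range := by
    refine (eq_of_le_of_card_ge hS ?_).symm
    exact (Nat.le_of_dvd (pow_pos hp.out.pos 2) hSc).trans (Nat.le_of_dvd Nat.card_pos hcard)
  refine moved_of_sylow S fun y hy hyo => ?_
  rw [hSe] at hy
  obtain ⟨m, n, rfl⟩ := hmem y hy
  refine ⟨c, j, ?_, fun h => ?_⟩
  · calc c * (a ^ m * b ^ n) * c⁻¹ = (c * a * c⁻¹) ^ m * (c * b * c⁻¹) ^ n := by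
          rw [conj_zpow, conj_zpow]; group
      _ = (a ^ m * b ^ n) ^ j := by
          rw [hca, hcb, ((hcomm.zpow_left m).zpow_right n).mul_pow, ← zpow_natCast, ← zpow_natCast, ← zpow_natCast,
            ← zpow_natCast, ← zpow_mul, ← zpow_mul, ← zpow_mul, ← zpow_mul, mul_comm m, mul_comm n]
  · have h1 : (a ^ m * b ^ n) ^ ((j : ℤ) - 1) = 1 := by
      rw [zpow_sub, zpow_one, zpow_natCast, h, mul_inv_cancel]
    have h2 := orderOf_dvd_iff_zpow_eq_one.2 h1
    rw [hyo] at h2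
    exact hj h2

end Cfsg.Agent.H859.Ccp.Tools
end

-- part: H859/Ccp/Suz
section
/-!
# S4114: the row `Suz` (helper859)

* `moved_three` : the elements of order 3 lie in `3^5 : M₁₁` up to conjugation; those of `A0 = 3^5` are inverted by
  conjugates of one word, the others are conjugate to `E v * m0`;
* `moved_five` : a Sylow 5-subgroup `⟨u, v⟩` is inverted by a word.
-/

set_option autoImplicit false
set_option maxRecDepth 100000

namespace Cfsg.Agent.H859.Ccp.Suz

open Subgroup Cfsg Cfsg.Spor Cfsg.Agent.H520 Cfsg.Agent.H497.Stein Cfsg.Agent.H859.Ccp.Tools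
open Cfsg.Agent.Lib.PermNet Cfsg.Agent.SporadicRecognition.SuzPhi
open Cfsg.Agent.SporadicRecognition.SuzOrder
  Cfsg.Agent.SuzThree.Basic Cfsg.Agent.SuzThree.Elts
  Cfsg.Agent.SuzThree.Elementary Cfsg.Agent.SuzThree.NormElts Cfsg.Agent.SuzThree.NormAct
  Cfsg.Agent.BpSpor.SuzThreeCentral

universe u

/-- a word inverting an element -/
theorem inv_of_words {t : Suz} {w : List Net} (ht : Rep t w) (c : List Suz.Gen)
    (h : t5 (wd c ++ w ++ wd c.reverse ++ w) = true) : el c * t * (el c)⁻¹ = t⁻¹ := by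
  have h1 : Rep (el c * t * el c.reverse * t) (wd c ++ w ++ wd c.reverse ++ w) :=
    (((Rep.el c).mul ht).mul (Rep.el _)).mul ht
  rw [← el_reverse]
  exact eq_inv_of_mul_eq_one_left (eq_one_of_t5 h1 h)

theorem ne_one_of_pt {t : Suz} {w : List Net} (ht : Rep t w) (p q : ℕ) (h : mv w p q = true) (hpq : p ≠ q) : t ≠ 1 := by
  intro h1
  have h2 := ht.pt h
  rw [h1, map_one] at h2
  exact hpq h2

/-! ### The elements of `A0` -/

/-- the word inverting `x₀` and `x₁` -/
def c0 : List Suz.Gen := [.a, .d, .f, .b, .a, .b, .f, .a]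

theorem c0_x0 : el c0 * x .i0 * (el c0)⁻¹ = (x .i0)⁻¹ := inv_of_words (rep_x .i0) c0 (by decide +kernel)

theorem c0_x1 : el c0 * x .i1 * (el c0)⁻¹ = (x .i1)⁻¹ := inv_of_words (rep_x .i1) c0 (by decide +kernel)

theorem inv_add {k : Suz} {v w : V} (hv : k * E v * k⁻¹ = (E v)⁻¹) (hw : k * E w * k⁻¹ = (E w)⁻¹) :
    k * E (v + w) * k⁻¹ = (E (v + w))⁻¹ := by
  calc k * E (v + w) * k⁻¹ = (k * E v * k⁻¹) * (k * E w * k⁻¹) := by rw [E_add]; group
    _ = (E w * E v)⁻¹ := by rw [hv, hw, mul_inv_rev]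
    _ = (E (v + w))⁻¹ := by rw [E_comm, E_add]

theorem inv_smul' {k : Suz} {v : V} (hv : k * E v * k⁻¹ = (E v)⁻¹) (s : ZMod 3) :
    k * E (s • v) * k⁻¹ = (E (s • v))⁻¹ := by
  have h3 : s = 0 ∨ s = 1 ∨ s = 2 := by revert s; decide
  rcases h3 with rfl | rfl | rfl
  · rw [zero_smul, E_zero]; simp
  · rw [one_smul]; exact hv
  · have h2 : (2 : ZMod 3) • v = v + v := by
      rw [show (2 : ZMod 3) = 1 + 1 by decide, add_smul, one_smul]
    rw [h2]
    exact inv_add hv hv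

theorem inv_of_sp {n : Suz} {f : Ix} {k : Suz} {i : Ix} (hi : k * x i * k⁻¹ = (x i)⁻¹) (h : Sp n i f) :
    (n * k * n⁻¹) * x f * (n * k * n⁻¹)⁻¹ = (x f)⁻¹ := by
  rcases h with h | h
  · rw [← h]
    calc n * k * n⁻¹ * (n * x i * n⁻¹) * (n * k * n⁻¹)⁻¹ = n * (k * x i * k⁻¹) * n⁻¹ := by group
      _ = (n * x i * n⁻¹)⁻¹ := by rw [hi]; group
  · have h' : x f = n * (x i)⁻¹ * n⁻¹ := by
      rw [← inv_inj, ← h]; group
    rw [h']
    calc n * k * n⁻¹ * (n * (x i)⁻¹ * n⁻¹) * (n * k * n⁻¹)⁻¹ = n * (k * x i * k⁻¹)⁻¹ * n⁻¹ := by group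
      _ = (n * (x i)⁻¹ * n⁻¹)⁻¹ := by rw [hi]; group

private noncomputable def _root_.Cfsg.Agent.LsF.f670069_0 : {f // @Cfsg.Agent.SuzThree.Elts.instDecidableEqIx = f} := ⟨_, by first | (delta Cfsg.Agent.SuzThree.Elts.instDecidableEqIx; rewrite [Cfsg.Agent.LsF.instDecEq_eq, Cfsg.Agent.LsF.dite_eq]; exact rfl) | exact rfl⟩
theorem real_A0 {y : Suz} (hy : y ∈ A0) : IsConj y y⁻¹ := by
  obtain ⟨v, rfl⟩ := mem_A0.1 hy
  obtain ⟨f, g, hfg, s, t, rfl⟩ := decomp v
  have hex : ∀ a b : Ix, a ≠ b → ∃ c d : Ix, [a, b, c, d].Nodup := by (refine of_decide_eq_true ?_; (try (rewrite [Cfsg.Agent.LsF.f670069_0.2, Cfsg.Agent.LsF.dForall_eq, Cfsg.Agent.LsF.dExists_eq, Cfsg.Agent.LsF.dNot_eq, Cfsg.Agent.LsF.dNodup_eq, Cfsg.Agent.LsF.dAllP_eq, Cfsg.Agent.LsF.decide_eq])); decide +kernel)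
  obtain ⟨c, d, hn⟩ := hex f g hfg
  obtain ⟨n, h0, h1, -, -⟩ := exists_npr f g c d hn
  have e0 := smul_spec n .i0
  have e1 := smul_spec n .i1
  rw [h0] at e0
  rw [h1] at e1
  have k0 := inv_of_sp c0_x0 e0
  have k1 := inv_of_sp c0_x1 e1
  rw [x_eq] at k0 k1
  exact isConj_iff.2 ⟨_, inv_add (inv_smul' k0 s) (inv_smul' k1 t)⟩

/-! ### The elements outside of `A0` -/

/-- the word of an element of order 3 of the complement -/
def mw : List Suz.Gen := [.a, .b, .a, .c]

theorem m_mem : el mw ∈ NA := by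
  have h : el mw = el (nw .j2) * el (nw .j0) := by
    rw [← el_append]; rfl
  rw [h]
  exact mul_mem (nw_mem .j2) (nw_mem .j0)

/-- the images of the basis -/
def col : Fin 5 → V := ![(1, 0, 0, 0, 0), (0, 2, 1, 1, 1), (2, 2, 2, 0, 1), (0, 1, 0, 0, 0), (1, 2, 2, 2, 0)]

/-- the basis -/
def bas : Fin 5 → V := ![(1, 0, 0, 0, 0), (0, 1, 0, 0, 0), (0, 0, 1, 0, 0), (0, 0, 0, 1, 0), (0, 0, 0, 0, 1)]

theorem m_bas (i : Fin 5) : el mw * E (bas i) = E (col i) * el mw := by
  have h : checkEq 11 (wd mw ++ eW (bas i)) (eW (col i) ++ wd mw) = true := by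
    revert i; decide +kernel
  exact eq_of_reps ((Rep.el mw).mul (rep_E _)) ((rep_E _).mul (Rep.el mw)) h

/-- the linear map -/
def Mf (v : V) : V := v.1.val • col 0 + (v.2.1.val • col 1 + (v.2.2.1.val • col 2 +
  (v.2.2.2.1.val • col 3 + v.2.2.2.2.val • col 4)))

private noncomputable def _root_.Cfsg.Agent.LsF.f670069_7 : {f // @Cfsg.Agent.H859.Ccp.Suz.bas = f} := ⟨_, by first | (delta Cfsg.Agent.H859.Ccp.Suz.bas; rewrite [Cfsg.Agent.LsF.vecCons_eq]; exact rfl) | exact rfl⟩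
theorem eq_bas : ∀ v : V, v = v.1.val • bas 0 + (v.2.1.val • bas 1 + (v.2.2.1.val • bas 2 +
    (v.2.2.2.1.val • bas 3 + v.2.2.2.2.val • bas 4))) := by (refine of_decide_eq_true ?_; (try (rewrite [Cfsg.Agent.LsF.f670069_7.2, Cfsg.Agent.LsF.zdecEq_eq, Cfsg.Agent.LsF.zval_eq, Cfsg.Agent.LsF.dProdEq_eq, Cfsg.Agent.LsF.zFintype_eq, Cfsg.Agent.LsF.prodFintype_eq, Cfsg.Agent.LsF.dForall_eq, Cfsg.Agent.LsF.instZAdd_pat, Cfsg.Agent.LsF.decide_eq])); decide +kernel)

theorem m_E (v : V) : el mw * E v = E (Mf v) * el mw := by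
  obtain ⟨L, hL⟩ := exists_L ⟨el mw, m_mem⟩
  have hL' : ∀ v, E (L v) = el mw * E v * (el mw)⁻¹ := hL
  have h1 : ∀ i, L (bas i) = col i := by
    intro i
    apply E_injective
    rw [hL', m_bas, mul_inv_cancel_right]
  have h2 : L v = Mf v := by
    conv_lhs => rw [eq_bas v]
    rw [map_add, map_add, map_add, map_add, map_nsmul, map_nsmul, map_nsmul, map_nsmul, map_nsmul, h1, h1, h1, h1, h1]
    rfl
  rw [← h2, hL', inv_mul_cancel_right]

/-- the other representatives -/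
def oth : List V :=
  [(0, 0, 0, 0, 1), (0, 0, 0, 0, 2), (0, 0, 0, 1, 0), (0, 0, 0, 2, 0), (0, 0, 1, 0, 0), (0, 0, 2, 0, 0)]

/-- the representatives modulo `(1 - M) V` -/
def reps9 : List V := 0 :: (0, 0, 0, 1, 1) :: (0, 0, 0, 2, 2) :: oth

private noncomputable def _root_.Cfsg.Agent.LsF.f670069_8 : {f // @Cfsg.Agent.H859.Ccp.Suz.col = f} := ⟨_, by first | (delta Cfsg.Agent.H859.Ccp.Suz.col; rewrite [Cfsg.Agent.LsF.vecCons_eq]; exact rfl) | exact rfl⟩
private noncomputable def _root_.Cfsg.Agent.LsF.f670069_9 : {f // @Cfsg.Agent.H859.Ccp.Suz.Mf = f} := ⟨_, by first | (delta Cfsg.Agent.H859.Ccp.Suz.Mf; rewrite [Cfsg.Agent.LsF.f670069_8.2, Cfsg.Agent.LsF.zval_eq, Cfsg.Agent.LsF.instZAdd_pat]; exact rfl) | exact rfl⟩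
private def wd9 (n : ℕ) : V := ((n % 3 : ℕ), (n / 3 % 3 : ℕ), (n / 9 % 3 : ℕ), (n / 27 % 3 : ℕ), (n / 81 % 3 : ℕ))

private def w9 (v : V) : V := wd9 (Nat.mod (Nat.shiftRight 0x422d0627123c0c4821422d063f3303241839422d060f4b1b453000422d0627123c0c4821094e1e3f33030c48212a15360f4b1b0c4821422d0627123c0c4821094e1e27123c2418392a153627123c453000422d0627123c241839094e1e3f33032418392a15360f4b1b241839422d063f33030c4821094e1e3f33032418392a15363f3303453000094e1e27123c0c4821094e1e3f3303241839094e1e0f4b1b453000422d060f4b1b0c4821094e1e0f4b1b2418392a15360f4b1b4530002a153627123c0c48212a15363f33032418392a15360f4b1b453000422d0627123c453000094e1e3f33034530002a15360f4b1b453000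
  (8 * (v.1.val + 3 * v.2.1.val + 9 * v.2.2.1.val + 27 * v.2.2.2.1.val + 81 * v.2.2.2.2.val))) 256)

theorem cover9 : ∀ v : V, ∃ u : V, v + u - Mf u ∈ reps9 := fun v =>
  ⟨w9 v, (by (refine of_decide_eq_true ?_; (try (rewrite [Cfsg.Agent.LsF.f670069_9.2, Cfsg.Agent.LsF.zdecEq_eq, Cfsg.Agent.LsF.zFintype_eq, Cfsg.Agent.LsF.prodFintype_eq, Cfsg.Agent.LsF.dForall_eq, Cfsg.Agent.LsF.instZAdd_pat, Cfsg.Agent.LsF.instZSub_pat, Cfsg.Agent.LsF.dMem_eq, Cfsg.Agent.LsF.decide_eq])); decide +kernel) : ∀ v : V, v + w9 v - Mf (w9 v) ∈ reps9) v⟩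

theorem cover (v : V) : ∃ u : V, v + u - Mf u = 0 ∨ v + u - Mf u = (0, 0, 0, 1, 1) ∨ v + u - Mf u = (0, 0, 0, 2, 2) ∨
    v + u - Mf u ∈ oth := by
  obtain ⟨u, hu⟩ := cover9 v
  refine ⟨u, ?_⟩
  simpa only [reps9, List.mem_cons] using hu

theorem cube_eq {G : Type*} [Group G] (t : G) : t * (t * t) = t ^ 3 := by
  simp only [pow_succ, pow_zero, one_mul, mul_assoc]

theorem five_eq {G : Type*} [Group G] (t : G) : t * (t * (t * (t * t))) = t ^ 5 := by
  simp only [pow_succ, pow_zero, one_mul, mul_assoc]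

/-- conjugation by `A0` -/
theorem conj_E (v u : V) : IsConj (E v * el mw) (E (v + u - Mf u) * el mw) := by
  refine isConj_iff.2 ⟨E u, ?_⟩
  have h := m_E (-u)
  have h1 : Mf (-u) = -Mf u := by
    apply E_injective
    have h2 := m_E u
    have h3 : E (Mf u) = el mw * E u * (el mw)⁻¹ := by rw [h2, mul_inv_cancel_right]
    have h4 : E (Mf (-u)) = el mw * E (-u) * (el mw)⁻¹ := by rw [h, mul_inv_cancel_right]
    rw [h4, E_neg, E_neg, h3]; group
  calc E u * (E v * el mw) * (E u)⁻¹ = E u * E v * (el mw * E (-u)) := by rw [E_neg]; group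
    _ = E u * E v * (E (-Mf u) * el mw) := by rw [h, h1]
    _ = E (v + u - Mf u) * el mw := by
      rw [← mul_assoc, ← E_add, ← E_add, sub_eq_add_neg, add_comm u v]

theorem rep_Em (v : V) : Rep (E v * el mw) (eW v ++ wd mw) := (rep_E v).mul (Rep.el mw)

theorem real_0 : IsConj (E 0 * el mw) (E 0 * el mw)⁻¹ :=
  isConj_iff.2 ⟨_, inv_of_words (rep_Em _) [.c] (by decide +kernel)⟩

theorem real_1 : IsConj (E (0, 0, 0, 1, 1) * el mw) (E (0, 0, 0, 1, 1) * el mw)⁻¹ :=
  isConj_iff.2 ⟨_, inv_of_words (rep_Em _) [.a, .f, .b, .c, .d, .c, .b, .f, .a] (by decide +kernel)⟩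

theorem real_2 : IsConj (E (0, 0, 0, 2, 2) * el mw) (E (0, 0, 0, 2, 2) * el mw)⁻¹ :=
  isConj_iff.2 ⟨_, inv_of_words (rep_Em _) [.c, .d, .c, .b, .a, .b, .c, .d, .c] (by decide +kernel)⟩

theorem cub_of (v : V) (q : ℕ) (h : mv ((eW v ++ wd mw) ++ ((eW v ++ wd mw) ++ (eW v ++ wd mw))) 0 q = true)
    (hq : 0 ≠ q) : (E v * el mw) ^ 3 ≠ 1 := by
  have h1 := (rep_Em v).mul ((rep_Em v).mul (rep_Em v))
  have h2 := ne_one_of_pt h1 0 q h hq
  intro h3
  apply h2
  rw [cube_eq, h3]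

theorem cube_all : ∀ v ∈ oth, (E v * el mw) ^ 3 ≠ 1 := by
  intro v hv
  simp only [oth, List.mem_cons, List.not_mem_nil, or_false] at hv
  rcases hv with rfl | rfl | rfl | rfl | rfl | rfl
  · exact cub_of _ 1367 (by decide +kernel) (by norm_num)
  · exact cub_of _ 1575 (by decide +kernel) (by norm_num)
  · exact cub_of _ 1575 (by decide +kernel) (by norm_num)
  · exact cub_of _ 1367 (by decide +kernel) (by norm_num)
  · exact cub_of _ 1367 (by decide +kernel) (by norm_num)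
  · exact cub_of _ 1575 (by decide +kernel) (by norm_num)

theorem real_of_conj {G : Type*} [Group G] {y z : G} (h : IsConj y z) (hz : IsConj z z⁻¹) : IsConj y y⁻¹ := by
  obtain ⟨c, rfl⟩ := isConj_iff.1 h
  refine h.trans (hz.trans (isConj_iff.2 ⟨c⁻¹, ?_⟩))
  group

theorem real_Em {v : V} (h3 : (E v * el mw) ^ 3 = 1) : IsConj (E v * el mw) (E v * el mw)⁻¹ := by
  obtain ⟨u, h | h | h | h⟩ := cover v
  · have h1 := conj_E v u
    rw [h] at h1
    exact real_of_conj h1 real_0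
  · have h1 := conj_E v u
    rw [h] at h1
    exact real_of_conj h1 real_1
  · have h1 := conj_E v u
    rw [h] at h1
    exact real_of_conj h1 real_2
  · exfalso
    obtain ⟨c, hc⟩ := isConj_iff.1 (conj_E v u)
    apply cube_all _ h
    rw [← hc, conj_pow, h3, mul_one, mul_inv_cancel]

theorem m_notMem : el mw ∉ A0 := by
  intro h
  have h1 := m_bas 1
  rw [comm_A0 h (E_mem _)] at h1
  have h2 := E_injective (mul_right_cancel h1)
  exact absurd h2 (by decide)

theorem m_cube : (el mw) ^ 3 = 1 := by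
  have h1 := (Rep.el mw).mul ((Rep.el mw).mul (Rep.el mw))
  have h2 := eq_one_of_t5 h1 (by decide +kernel)
  rw [← cube_eq, h2]

/-- elements of order 3 of `NA` -/
theorem real_NA {y : Suz} (hy : y ∈ NA) (hy3 : orderOf y = 3) : IsConj y y⁻¹ := by
  by_cases hA : y ∈ A0
  · exact real_A0 hA
  have : Fact (Nat.Prime 3) := ⟨Nat.prime_three⟩
  obtain ⟨e⟩ := isoM11
  have hM : Cfsg.IsM11 (NA ⧸ A0.subgroupOf NA) := Cfsg.Agent.Cit.Eleven.isM11 ⟨e⟩
  have key : ∀ z : NA, (z : Suz) ^ 3 = 1 → (z : Suz) ∉ A0 → orderOf (QuotientGroup.mk z : NA ⧸ A0.subgroupOf NA) = 3 := by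
    intro z h3 hz
    refine orderOf_eq_prime ?_ ?_
    · rw [← QuotientGroup.mk_pow]
      have h4 : z ^ 3 = 1 := Subtype.ext h3
      rw [h4]; rfl
    · intro h1
      exact hz ((QuotientGroup.eq_one_iff z).1 h1)
  have h1 := key ⟨y, hy⟩ (by rw [← hy3]; exact pow_orderOf_eq_one y) hA
  have h2 := key ⟨el mw, m_mem⟩ m_cube m_notMem
  obtain ⟨cb, hc⟩ := isConj_iff.1 (Cfsg.Agent.SporadicA.M11Facts2.isConj_three hM h1 h2)
  obtain ⟨c, rfl⟩ := QuotientGroup.mk_surjective cb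
  have h4 : (QuotientGroup.mk (c * ⟨y, hy⟩ * c⁻¹ * (⟨el mw, m_mem⟩ : NA)⁻¹) : NA ⧸ A0.subgroupOf NA) = 1 := by
    rw [QuotientGroup.mk_mul, QuotientGroup.mk_mul, QuotientGroup.mk_mul, QuotientGroup.mk_inv, QuotientGroup.mk_inv, hc,
      mul_inv_cancel]
  have h5 := (QuotientGroup.eq_one_iff _).1 h4
  obtain ⟨v, hv⟩ := mem_A0.1 h5
  have h6 : (c : Suz) * y * (c : Suz)⁻¹ = E v * el mw := by
    rw [hv]
    show (c : Suz) * y * (c : Suz)⁻¹ = (c : Suz) * y * (c : Suz)⁻¹ * (el mw)⁻¹ * el mw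
    rw [inv_mul_cancel_right]
  refine real_of_conj (isConj_iff.2 ⟨c, h6⟩) (real_Em ?_)
  rw [← h6, conj_pow, ← hy3, pow_orderOf_eq_one, mul_one, mul_inv_cancel]

theorem moved_three : Moved 3 Suz := by
  have hfin := finSuz
  have : Fact (Nat.Prime 3) := ⟨Nat.prime_three⟩
  refine moved_of_subgroup NA ?_ fun y hy hyo =>
    movedAt_of_real (real_NA hy hyo) (sq_ne_one Nat.prime_three (by norm_num) hyo)
  have h1 := NA.card_mul_index
  rw [card_NA, card_Suz] at h1
  omega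

/-! ### Elements of order 5 -/

def aw : List Suz.Gen := [.a, .b]

def bw : List Suz.Gen :=
  [.b, .e, .a, .c, .b, .d, .c, .d, .c, .b, .a, .b, .c, .d, .c, .b, .a, .c, .b, .a, .b, .c, .a, .b, .a, .b]

theorem a_five : el aw ^ 5 = 1 := by
  have h := Rep.el aw
  have h1 := h.mul (h.mul (h.mul (h.mul h)))
  have h2 := eq_one_of_t5 h1 (by decide +kernel)
  rw [← five_eq, h2]

theorem b_five : el bw ^ 5 = 1 := by
  have h := Rep.el bw
  have h1 := h.mul (h.mul (h.mul (h.mul h)))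
  have h2 := eq_one_of_t5 h1 (by decide +kernel)
  rw [← five_eq, h2]

theorem b_ne : el bw ≠ 1 := ne_one_of_pt (Rep.el bw) 4 14 (by decide +kernel) (by norm_num)

theorem a_ne : el aw ≠ 1 := ne_one_of_pt (Rep.el aw) 1 3 (by decide +kernel) (by norm_num)

theorem comm_ab : el aw * el bw = el bw * el aw :=
  eq_of_reps ((Rep.el aw).mul (Rep.el bw)) ((Rep.el bw).mul (Rep.el aw)) (by decide +kernel)

theorem a_a : el [.a] * el aw * (el [.a])⁻¹ = (el aw)⁻¹ := inv_of_words (Rep.el aw) [.a] (by decide +kernel)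

theorem a_b : el [.a] * el bw = el bw * el [.a] :=
  eq_of_reps ((Rep.el [.a]).mul (Rep.el bw)) ((Rep.el bw).mul (Rep.el [.a])) (by decide +kernel)

theorem ae_a : el [.a, .e] * el aw * (el [.a, .e])⁻¹ = (el aw)⁻¹ := inv_of_words (Rep.el aw) [.a, .e] (by decide +kernel)

theorem ae_b : el [.a, .e] * el bw * (el [.a, .e])⁻¹ = (el bw)⁻¹ := inv_of_words (Rep.el bw) [.a, .e] (by decide +kernel)

theorem b_notMem : el bw ∉ zpowers (el aw) := by
  rintro ⟨k, hk⟩
  have hk' : el aw ^ k = el bw := hk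
  have h1 : el [.a] * el aw ^ k * (el [.a])⁻¹ = (el aw ^ k)⁻¹ := by rw [← conj_zpow, a_a, inv_zpow]
  rw [hk', a_b, mul_inv_cancel_right] at h1
  apply b_ne
  have h2 : el bw ^ 2 = 1 := by
    rw [pow_two]
    nth_rw 1 [h1]
    rw [inv_mul_cancel]
  calc el bw = el bw ^ 5 * ((el bw ^ 2) ^ 2)⁻¹ := by group
    _ = 1 := by rw [b_five, h2]; group

theorem moved_five : Moved 5 Suz := by
  have hfin := finSuz
  have : Fact (Nat.Prime 5) := ⟨Nat.prime_five⟩
  have hi : ∀ t : Suz, t ^ 5 = 1 → t⁻¹ = t ^ 4 := fun t ht =>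
    inv_eq_of_mul_eq_one_left (by rw [← pow_succ, ht])
  refine moved_of_rank_two (p := 5) (j := 4) (c := el [.a, .e]) (by rw [card_Suz]; norm_num) a_five b_five a_ne comm_ab
    b_notMem (by norm_num) ?_ ?_
  · rw [ae_a, hi _ a_five]
  · rw [ae_b, hi _ b_five]

/-- **S4114, the row `Suz`.** -/
theorem row_Suz {G : Type u} [Group G] [Finite G] (h : Cfsg.Spor.IsoSuz G) : Cfsg.Agent.H520.Row G := by
  have D := BpSpor.Row.dat_suz h
  obtain ⟨e⟩ := h
  refine row_of_dat D (l := [(2, 13), (3, 7), (5, 2), (7, 1), (11, 1), (13, 1)])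
    (by decide +kernel) (by norm_num) fun x hx hx2 hx3 => ?_
  simp only [List.mem_cons, List.not_mem_nil, or_false] at hx
  rcases hx with rfl | rfl | rfl | rfl | rfl | rfl
  · exact absurd rfl hx3
  · exact moved_three.congr e
  · exact moved_five.congr e
  all_goals exact absurd hx2 (by norm_num)

end Cfsg.Agent.H859.Ccp.Suz
end

-- part: H285/Ccp/HN
section
/-!
# S4114: the row `HN` (helper285)
-/

set_option autoImplicit false

namespace Cfsg.Agent.H285.Ccp.HN

open Subgroup Cfsg Cfsg.Agent.H497.Stein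

universe u

theorem inn_hn {K : Type u} [Group K] (h : Spor.IsoHN K) : Cfsg.Agent.BpSpor.Inn.OddInn K := by
  intro p hp hp2 α hα
  exact Cfsg.Agent.H256.OddInner.hn h α (by rw [hα]; exact hp.odd_of_ne_two hp2)

theorem dat_hn {K : Type u} [Group K] (h : Spor.IsoHN K) : BpSpor.Dat K 273030912000000 where
  simple := by
    obtain ⟨e⟩ := h
    exact (MulEquiv.isSimpleGroup_congr e).2 Cfsg.Agent.S1701.result.1
  card := by
    obtain ⟨e⟩ := h
    rw [Nat.card_congr e.toEquiv, Cfsg.Agent.S1701.result.2]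
  inn := inn_hn h

/-- **S4114, the row `HN`.** -/
theorem row_HN {G : Type u} [Group G] [Finite G] (h : Cfsg.Spor.IsoHN G) : Cfsg.Agent.H520.Row G := by
  have D := dat_hn h
  obtain ⟨e⟩ := h
  refine row_of_dat D (l := [(2, 14), (3, 6), (5, 6), (7, 1), (11, 1), (19, 1)])
    (by decide +kernel) (by norm_num) fun x hx hx2 hx3 => ?_
  simp only [List.mem_cons, List.not_mem_nil, or_false] at hx
  rcases hx with rfl | rfl | rfl | rfl | rfl | rfl
  · exact absurd rfl hx3
  · exact Cfsg.Agent.H285.HN3.moved_three.congr e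
  · exact Cfsg.Agent.H285.HN5.moved_five.congr e
  all_goals exact absurd hx2 (by norm_num)

end Cfsg.Agent.H285.Ccp.HN
end

-- part: H979/Ccp/Fi22
section
/-!
# S4114: the row `Fi22` (helper979)
-/

set_option autoImplicit false
set_option maxRecDepth 100000

namespace Cfsg.Agent.H979.Ccp.FiTT

open Subgroup Cfsg Cfsg.Agent.H520 Cfsg.Agent.H497.Stein
open Cfsg.Spor Cfsg.Spor.Fi22 Cfsg.Agent.Lib.PermNet Cfsg.Agent.Lib.PermNetOrbit Cfsg.Agent.Lib.PermNetFix
open Cfsg.Agent.Fischer Cfsg.Agent.Fischer.Fi22PtsRep Cfsg.Agent.H834 Cfsg.Agent.H834.AC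
open Cfsg.Agent.H184.Fi22Ok Cfsg.Agent.H184.Fi22Three

universe u

theorem real_of {g w : List Gen} (h : eqB (g ++ w) (w.reverse ++ g) = true) : IsConj (wd w) (wd w)⁻¹ := by
  have h1 := eq_of h
  rw [wd_append, wd_append, wd_reverse] at h1
  exact isConj_iff.2 ⟨wd g, by rw [h1, mul_inv_cancel_right]⟩

theorem real_xw3 (i : Fin 4) : IsConj (wd (xw3 i)) (wd (xw3 i))⁻¹ := by
  fin_cases i
  · exact real_of (g := [.a]) (w := [.a, .b]) (by decide +kernel)
  · exact real_of (g := [.a, .e]) (w := [.a, .b, .e, .f]) (by decide +kernel)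
  · exact real_of (g := [.a, .b, .c, .d, .e, .h, .a, .b, .c, .d, .a, .b, .c, .a, .b, .a])
      (w := [.a, .b, .c, .d, .h, .e, .i, .a, .b, .c, .d, .h, .e, .i, .a, .b, .c, .d, .h, .e, .i]) (by decide +kernel)
  · exact real_of (g := [.b, .h, .f]) (w := [.b, .h, .i, .c, .f, .e]) (by decide +kernel)

theorem moved_three : Moved 3 Spor.Fi22 := by
  have hfin : Finite Spor.Fi22 := Nat.finite_of_card_ne_zero (by rw [Cfsg.Agent.S1696.result.2]; norm_num)
  have h3 : Fact (Nat.Prime 3) := ⟨Nat.prime_three⟩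
  refine moved_of_real Nat.prime_three (by norm_num) fun y hy => ?_
  obtain ⟨i, g, hg⟩ := exists_rep (X := zpowers y) (by rw [Nat.card_zpowers, hy])
  have h1 : g * wd (xw3 i) * g⁻¹ ∈ zpowers y := by
    rw [← hg]
    exact ⟨_, mem_zpowers _, rfl⟩
  have h2 : IsConj (g * wd (xw3 i) * g⁻¹) (g * wd (xw3 i) * g⁻¹)⁻¹ := by
    have h4 : IsConj (g * wd (xw3 i) * g⁻¹) (wd (xw3 i)) := (isConj_iff.2 ⟨g, rfl⟩ : IsConj (wd (xw3 i)) _).symm
    have h5 : IsConj (wd (xw3 i))⁻¹ (g * wd (xw3 i) * g⁻¹)⁻¹ := isConj_iff.2 ⟨g, by group⟩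
    exact (h4.trans (real_xw3 i)).trans h5
  have h6 : orderOf (g * wd (xw3 i) * g⁻¹) = 3 := by
    rw [← MulAut.conj_apply, MulEquiv.orderOf_eq, ord_xw3]
  have hy3 : y ^ 3 = 1 := by rw [← hy, pow_orderOf_eq_one]
  obtain ⟨k, hk⟩ := mem_zpowers_iff.1 h1
  have h7 : y ^ k = 1 ∨ y ^ k = y ∨ y ^ k = y⁻¹ := by
    have e : y ^ k = y ^ (k % 3) := by
      conv_lhs => rw [← Int.emod_add_mul_ediv k 3, zpow_add, zpow_mul]
      have h9 : y ^ (3 : ℤ) = 1 := by exact_mod_cast hy3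
      rw [h9, one_zpow, mul_one]
    rw [e]
    have h8 : k % 3 = 0 ∨ k % 3 = 1 ∨ k % 3 = 2 := by omega
    rcases h8 with h | h | h
    · left
      rw [h, zpow_zero]
    · right; left
      rw [h, zpow_one]
    · right; right
      rw [h]
      apply eq_inv_of_mul_eq_one_left
      rw [← zpow_add_one]
      exact_mod_cast hy3
  rcases h7 with h | h | h
  · rw [hk] at h
    rw [h, orderOf_one] at h6
    norm_num at h6
  · rw [hk] at h
    rwa [h] at h2
  · rw [hk] at h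
    rw [h, inv_inv] at h2
    exact h2.symm

theorem moved_five : Moved 5 Spor.Fi22 := by
  intro y hy
  have I := Cfsg.Agent.H836.inv_of_iso (MulEquiv.refl Spor.Fi22)
  have hy5 : y ^ 5 = 1 := by rw [← hy, pow_orderOf_eq_one]
  have hy1 : y ≠ 1 := by
    rintro rfl
    rw [orderOf_one] at hy
    norm_num at hy
  obtain ⟨g, hg⟩ := Cfsg.Agent.H835.Five.exists_square I hy5 hy1
  refine ⟨g, 2, hg, ?_⟩
  intro h
  apply hy1
  rw [pow_two] at h
  exact mul_eq_left.1 h

/-- **S4114, the row `Fi22`.** -/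
theorem row_Fi22 {G : Type u} [Group G] [Finite G] (h : Cfsg.Spor.IsoFi22 G) : Cfsg.Agent.H520.Row G := by
  have D := BpSpor.Row.dat_fi22 h
  obtain ⟨e⟩ := h
  refine row_of_dat D (l := [(2, 17), (3, 9), (5, 2), (7, 1), (11, 1), (13, 1)])
    (by decide +kernel) (by norm_num) fun x hx hx2 hx3 => ?_
  simp only [List.mem_cons, List.not_mem_nil, or_false] at hx
  rcases hx with rfl | rfl | rfl | rfl | rfl | rfl
  · exact absurd rfl hx3
  · exact moved_three.congr e
  · exact moved_five.congr e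
  all_goals exact absurd hx2 (by norm_num)

end Cfsg.Agent.H979.Ccp.FiTT
end

private theorem dce_2bfaeb0245e8 : _root_.True := by
  try have : _root_.True := by simp only [_root_.Cfsg.Agent.H859.Ccp.Suz.reps9.eq_1]
  try have : _root_.True := by simp only [_root_.Cfsg.Agent.H859.Ccp.Suz.oth.eq_1]
  try have : _root_.True := by simp only [_root_.Cfsg.Agent.H285.Ccp.Tits.rl.eq_1]
  exact _root_.True.intro
end
end
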